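import Mathlib
import Cfsg.Agent.Lib.FgsB.Basic

/-!
# Two class sizes of `p`-regular elements: centralisers of elements of prime power order

If all noncentral `p`-regular elements have centralisers of one order `c`, two commuting noncentral
elements of prime power order prime to `p` have the same centraliser, as soon as two primes other
than `p` have noncentral elements.
-/

set_option autoImplicit false
set_option linter.style.haveILetI false

open Subgroup
open scoped commutatorElement

namespace CfsgLib.SolvStruct.TwoRegSizes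

variable {G : Type*} [Group G]

/-- `x` has order a power of `q`. -/
def IsPP (q : ℕ) (x : G) : Prop := ∃ k : ℕ, orderOf x = q ^ k

/-- A noncentral element of `q`-power order, `q` a prime other than `p`. -/
def Good (p q : ℕ) (x : G) : Prop := q.Prime ∧ q ≠ p ∧ IsPP q x ∧ x ∉ center G

/-- Two primes other than `p` have noncentral elements. -/
def TwoVertices (p : ℕ) (G : Type*) [Group G] : Prop := ∀ q : ℕ, ∃ r, ∃ y : G, r ≠ q ∧ Good p r y

/-- All noncentral `p`-regular elements have centralisers of order `c`. -/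
structure Hyp (p c : ℕ) (G : Type*) [Group G] : Prop where
  prime : p.Prime
  card_eq : ∀ x : G, (orderOf x).Coprime p → x ∉ center G →
    Nat.card (centralizer ({x} : Set G)) = c

theorem isPP_of_dvd {q : ℕ} (hq : q.Prime) {x : G} {H : Type*} [Group H] {y : H} (h : IsPP q x)
    (hd : orderOf y ∣ orderOf x) : IsPP q y := by
  obtain ⟨k, hk⟩ := h
  obtain ⟨i, -, hi⟩ := (Nat.dvd_prime_pow hq).1 (hk ▸ hd)
  exact ⟨i, hi⟩

theorem isPP_of_pow_eq_one {q : ℕ} (hq : q.Prime) {x : G} {k : ℕ} (h : x ^ q ^ k = 1) :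
    IsPP q x := by
  obtain ⟨i, -, hi⟩ := (Nat.dvd_prime_pow hq).1 (orderOf_dvd_of_pow_eq_one h)
  exact ⟨i, hi⟩

theorem isPP_conj {q : ℕ} {x : G} (h : IsPP q x) (g : G) : IsPP q (g * x * g⁻¹) := by
  obtain ⟨k, hk⟩ := h
  exact ⟨k, by rw [← MulAut.conj_apply, MulEquiv.orderOf_eq, hk]⟩

theorem isPP_one (q : ℕ) : IsPP q (1 : G) := ⟨0, by simp⟩

theorem isPP_inv {q : ℕ} {x : G} (h : IsPP q x) : IsPP q x⁻¹ := by
  obtain ⟨k, hk⟩ := h
  exact ⟨k, by rw [orderOf_inv, hk]⟩

theorem isPP_pow {q : ℕ} (hq : q.Prime) {x : G} (h : IsPP q x) (n : ℕ) : IsPP q (x ^ n) :=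
  isPP_of_dvd hq h (orderOf_pow_dvd n)

theorem isPP_mul {q : ℕ} (hq : q.Prime) {x y : G} (hx : IsPP q x) (hy : IsPP q y)
    (hxy : Commute x y) : IsPP q (x * y) := by
  obtain ⟨k, hk⟩ := hx
  obtain ⟨l, hl⟩ := hy
  have h1 : orderOf (x * y) ∣ q ^ (k + l) := hxy.orderOf_mul_dvd_mul_orderOf.trans (by
    rw [hk, hl, pow_add])
  obtain ⟨i, -, hi⟩ := (Nat.dvd_prime_pow hq).1 h1
  exact ⟨i, hi⟩

theorem coprime_orders {q r : ℕ} (hq : q.Prime) (hr : r.Prime) (hqr : q ≠ r) {x : G}
    {H : Type*} [Group H] {y : H}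
    (hx : IsPP q x) (hy : IsPP r y) : (orderOf x).Coprime (orderOf y) := by
  obtain ⟨k, hk⟩ := hx
  obtain ⟨l, hl⟩ := hy
  rw [hk, hl]
  exact ((Nat.coprime_primes hq hr).2 hqr).pow k l

theorem eq_one_of_two_primes {q r : ℕ} (hq : q.Prime) (hr : r.Prime) (hqr : q ≠ r) {x : G}
    (hx : IsPP q x) (hy : IsPP r x) : x = 1 := by
  have h := coprime_orders hq hr hqr hx hy
  rwa [Nat.coprime_self, orderOf_eq_one_iff] at h

theorem regular_of_isPP {p q : ℕ} (hp : p.Prime) (hq : q.Prime) (hqp : q ≠ p) {x : G}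
    (hx : IsPP q x) : (orderOf x).Coprime p := by
  obtain ⟨k, hk⟩ := hx
  rw [hk]
  exact ((Nat.coprime_primes hq hp).2 hqp).pow_left k

theorem mem_zpowers_mul [Finite G] {x y : G} (hxy : Commute x y)
    (h : (orderOf x).Coprime (orderOf y)) : x ∈ zpowers (x * y) := by
  obtain ⟨n, h1, h2⟩ := Nat.chineseRemainder h 1 0
  have e1 : x ^ n = x := by
    conv_rhs => rw [← pow_one x]
    exact pow_eq_pow_iff_modEq.2 h1
  have e2 : y ^ n = 1 := orderOf_dvd_iff_pow_eq_one.1 (Nat.modEq_zero_iff_dvd.1 h2)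
  have e3 : (x * y) ^ n = x := by rw [hxy.mul_pow, e1, e2, mul_one]
  have h4 := pow_mem (mem_zpowers (x * y)) n
  rwa [e3] at h4

theorem regular_mul {p : ℕ} {x y : G} (hxy : Commute x y) (hx : (orderOf x).Coprime p)
    (hy : (orderOf y).Coprime p) : (orderOf (x * y)).Coprime p :=
  (Nat.Coprime.mul_left hx hy).coprime_dvd_left hxy.orderOf_mul_dvd_mul_orderOf

/-- A conjugation by an element of coprime prime power order fixing `y` modulo the centre fixes
`y`. -/
theorem eq_one_of_conj_eq_mul {q r : ℕ} (hq : q.Prime) (hr : r.Prime) (hqr : q ≠ r) {g y z : G}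
    (hz : z ∈ center G) (hg : IsPP q g) (hy : IsPP r y) (he : g * y * g⁻¹ = y * z) : z = 1 := by
  have hzc : ∀ a : G, a * z = z * a := mem_center_iff.1 hz
  have hn : ∀ n : ℕ, g ^ n * y * (g ^ n)⁻¹ = y * z ^ n := by
    intro n
    induction n with
    | zero => simp
    | succ n ih =>
      rw [pow_succ', show g * g ^ n * y * (g * g ^ n)⁻¹ = g * (g ^ n * y * (g ^ n)⁻¹) * g⁻¹ by group,
        ih, show g * (y * z ^ n) * g⁻¹ = g * y * g⁻¹ * (g * z ^ n * g⁻¹) by group, he,
        (show Commute g (z ^ n) from (Commute.pow_right (hzc g) n)).eq, mul_inv_cancel_right,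
        mul_assoc, pow_succ']
  have h1 : z ^ orderOf g = 1 := by
    have := hn (orderOf g)
    rw [pow_orderOf_eq_one, one_mul, inv_one, mul_one] at this
    exact (left_eq_mul.1 this)
  have h2 : z ^ orderOf y = 1 := by
    have h3 : (g * y * g⁻¹) ^ orderOf y = 1 := by
      rw [conj_pow, pow_orderOf_eq_one, mul_one, mul_inv_cancel]
    rwa [he, (show Commute y z from hzc y).mul_pow, pow_orderOf_eq_one, one_mul] at h3
  have h4 : orderOf z ∣ Nat.gcd (orderOf g) (orderOf y) :=
    Nat.dvd_gcd (orderOf_dvd_of_pow_eq_one h1) (orderOf_dvd_of_pow_eq_one h2)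
  rw [Nat.Coprime.gcd_eq_one (coprime_orders hq hr hqr hg hy), Nat.dvd_one,
    orderOf_eq_one_iff] at h4
  exact h4

/-- A conjugation by an element of coprime prime power order fixing `y` modulo the centre
commutes with `y`. -/
theorem commute_of_comm_mem_center {q r : ℕ} (hq : q.Prime) (hr : r.Prime) (hqr : q ≠ r) {g y : G}
    (hg : IsPP q g) (hy : IsPP r y) (h : y⁻¹ * (g * y * g⁻¹) ∈ center G) :
    g * y = y * g := by
  have he : g * y * g⁻¹ = y * (y⁻¹ * (g * y * g⁻¹)) := by group
  have := eq_one_of_conj_eq_mul hq hr hqr h hg hy he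
  rw [this, mul_one] at he
  exact mul_inv_eq_iff_eq_mul.1 he

theorem center_le (x : G) : center G ≤ centralizer ({x} : Set G) := fun a ha =>
  mem_centralizer_singleton_iff.2 ((mem_center_iff.1 ha x).symm)

theorem self_mem (x : G) : x ∈ centralizer ({x} : Set G) :=
  mem_centralizer_singleton_iff.2 rfl

theorem mem_symm {x y : G} (h : x ∈ centralizer ({y} : Set G)) :
    y ∈ centralizer ({x} : Set G) :=
  mem_centralizer_singleton_iff.2 (mem_centralizer_singleton_iff.1 h).symm

theorem centralizer_mul_center {x z : G} (hz : z ∈ center G) :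
    centralizer ({x * z} : Set G) = centralizer {x} := by
  ext a
  rw [mem_centralizer_singleton_iff, mem_centralizer_singleton_iff]
  have hza : z * a = a * z := (mem_center_iff.1 hz a).symm
  rw [mul_assoc x z a, hza, ← mul_assoc, ← mul_assoc, mul_left_inj]

theorem centralizer_inv' (x : G) : centralizer ({x⁻¹} : Set G) = centralizer {x} := by
  ext a
  rw [mem_centralizer_singleton_iff, mem_centralizer_singleton_iff]
  constructor
  · intro h; simpa using ((show Commute a x⁻¹ from h).inv_right).eq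
  · intro h; exact ((show Commute a x from h).inv_right).eq

theorem mem_centralizer_conj_iff {g x a : G} :
    a ∈ centralizer ({g * x * g⁻¹} : Set G) ↔ g⁻¹ * a * g ∈ centralizer ({x} : Set G) := by
  rw [mem_centralizer_singleton_iff, mem_centralizer_singleton_iff]
  constructor
  · intro h
    calc g⁻¹ * a * g * x = g⁻¹ * (a * (g * x * g⁻¹)) * g := by group
      _ = g⁻¹ * (g * x * g⁻¹ * a) * g := by rw [h]
      _ = x * (g⁻¹ * a * g) := by group
  · intro h
    calc a * (g * x * g⁻¹) = g * (g⁻¹ * a * g * x) * g⁻¹ := by group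
      _ = g * (x * (g⁻¹ * a * g)) * g⁻¹ := by rw [h]
      _ = g * x * g⁻¹ * a := by group

theorem mem_normalizer_of_centralizer_conj {g x : G}
    (h : centralizer ({g * x * g⁻¹} : Set G) = centralizer {x}) :
    g ∈ normalizer (centralizer ({x} : Set G) : Set G) := by
  refine mem_normalizer_iff.2 fun a => ?_
  conv_rhs => rw [← h, mem_centralizer_conj_iff]
  rw [show g⁻¹ * (g * a * g⁻¹) * g = a by group]

theorem centralizer_conj_of_mem_normalizer {g x : G}
    (h : g ∈ normalizer (centralizer ({x} : Set G) : Set G)) :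
    centralizer ({g * x * g⁻¹} : Set G) = centralizer {x} := by
  ext a
  rw [mem_centralizer_conj_iff]
  have := mem_normalizer_iff.1 h (g⁻¹ * a * g)
  rw [show g * (g⁻¹ * a * g) * g⁻¹ = a by group] at this
  exact this

/-- An element commuting with `x` modulo the centre normalises the centraliser of `x`. -/
theorem mem_normalizer_of_comm_center {g x : G} (h : x⁻¹ * (g * x * g⁻¹) ∈ center G) :
    g ∈ normalizer (centralizer ({x} : Set G) : Set G) := by
  refine mem_normalizer_of_centralizer_conj ?_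
  rw [show g * x * g⁻¹ = x * (x⁻¹ * (g * x * g⁻¹)) by group]
  exact centralizer_mul_center h

theorem isPP_of_mem {r : ℕ} {S : Subgroup G} [Finite G] [Fact r.Prime] (hS : IsPGroup r S) {x : G}
    (hx : x ∈ S) : IsPP r x := by
  obtain ⟨k, hk⟩ := IsPGroup.iff_orderOf.1 hS ⟨x, hx⟩
  exact ⟨k, by rwa [Subgroup.orderOf_mk] at hk⟩

theorem isPGroup_of_forall {r : ℕ} [Fact r.Prime] {S : Subgroup G} (h : ∀ x ∈ S, IsPP r x) :
    IsPGroup r S := by
  refine IsPGroup.iff_orderOf.2 fun x => ?_
  obtain ⟨k, hk⟩ := h x.1 x.2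
  exact ⟨k, by rwa [Subgroup.orderOf_coe] at hk⟩

theorem exists_sylow_le [Finite G] (r : ℕ) [Fact r.Prime] (K : Subgroup G) :
    ∃ S : Subgroup G, S ≤ K ∧ IsPGroup r S ∧
      Nat.card S = r ^ (Nat.card K).factorization r := by
  let S : Sylow r K := default
  refine ⟨(S : Subgroup K).map K.subtype, map_subtype_le _, S.isPGroup'.map _, ?_⟩
  rw [card_map_of_injective K.subtype_injective, S.card_eq_multiplicity]

theorem card_le_part [Finite G] {r : ℕ} [hr : Fact r.Prime] {S K : Subgroup G}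
    (hS : IsPGroup r S) (hle : S ≤ K) : Nat.card S ≤ r ^ (Nat.card K).factorization r := by
  obtain ⟨n, hn⟩ := IsPGroup.iff_card.1 hS
  rw [hn]
  refine Nat.pow_le_pow_right hr.out.pos ?_
  refine (hr.out.pow_dvd_iff_le_factorization Nat.card_pos.ne').1 ?_
  exact hn ▸ card_dvd_of_le hle

theorem eq_of_card_part [Finite G] {r : ℕ} [hr : Fact r.Prime] {S K T : Subgroup G}
    (hS : IsPGroup r S) (hle : S ≤ K) (hT : T ≤ S)
    (hcard : Nat.card T = r ^ (Nat.card K).factorization r) : T = S :=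
  eq_of_le_of_card_ge hT (hcard ▸ card_le_part hS hle)

/-- Iterated commutators in a nilpotent subgroup reach a property closed downwards. -/
theorem exists_descend [Finite G] {S : Subgroup G} (hS : Group.IsNilpotent S) (P D : G → Prop)
    (hPS : ∀ x, P x → x ∈ S) (h1 : ¬ P 1)
    (step : ∀ x, P x → ¬ D x → ∃ g ∈ S, P ⁅x, g⁆) {x₀ : G} (hx₀ : P x₀) : ∃ x, P x ∧ D x := by
  by_contra hno
  push Not at hno
  have key : ∀ n : ℕ, ∃ x : S, P x.1 ∧ x ∈ (⊤ : Subgroup S).lowerCentralSeries n := by
    intro n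
    induction n with
    | zero => exact ⟨⟨x₀, hPS x₀ hx₀⟩, hx₀, by simp⟩
    | succ n ih =>
      obtain ⟨x, hP, hx⟩ := ih
      obtain ⟨g, hg, hxg⟩ := step x.1 hP (hno x.1 hP)
      refine ⟨⁅x, ⟨g, hg⟩⁆, by simpa [commutatorElement_def] using hxg, ?_⟩
      rw [Subgroup.lowerCentralSeries_succ]
      exact Subgroup.commutator_mem_commutator hx (mem_top _)
  obtain ⟨n, hn⟩ := (Subgroup.nilpotent_iff_lowerCentralSeries (G := S)).1 hS
  obtain ⟨x, hP, hx⟩ := key n
  rw [hn, Subgroup.mem_bot] at hx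
  rw [hx] at hP
  exact h1 hP

/-- The `r`-elements of `K` generate. -/
def ppSub (r : ℕ) (K : Subgroup G) : Subgroup G := closure {u | u ∈ K ∧ IsPP r u}

theorem ppSub_le (r : ℕ) (K : Subgroup G) : ppSub r K ≤ K :=
  (closure_le _).2 fun _ h => h.1

theorem mem_ppSub_iff {r : ℕ} (hr : r.Prime) {K : Subgroup G}
    (hc : ∀ u ∈ K, ∀ w ∈ K, IsPP r u → IsPP r w → u * w = w * u) {u : G} :
    u ∈ ppSub r K ↔ u ∈ K ∧ IsPP r u := by
  refine ⟨fun h => ?_, fun h => subset_closure h⟩
  induction h using closure_induction with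
  | mem _ ha => exact ha
  | one => exact ⟨K.one_mem, isPP_one r⟩
  | mul a b _ _ ha hb => exact ⟨K.mul_mem ha.1 hb.1, isPP_mul hr ha.2 hb.2 (hc a ha.1 b hb.1 ha.2 hb.2)⟩
  | inv a _ ha => exact ⟨K.inv_mem ha.1, isPP_inv ha.2⟩

theorem card_ppSub [Finite G] {r : ℕ} [hr : Fact r.Prime] {K : Subgroup G}
    (hc : ∀ u ∈ K, ∀ w ∈ K, IsPP r u → IsPP r w → u * w = w * u) :
    Nat.card (ppSub r K) = r ^ (Nat.card K).factorization r := by
  obtain ⟨S, hSK, hS, hcard⟩ := exists_sylow_le r K
  have hpg : IsPGroup r (ppSub r K) := isPGroup_of_forall fun x hx => ((mem_ppSub_iff hr.out hc).1 hx).2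
  have hle : S ≤ ppSub r K := fun x hx => (mem_ppSub_iff hr.out hc).2 ⟨hSK hx, isPP_of_mem hS hx⟩
  rw [← hcard, eq_of_card_part hpg (ppSub_le r K) hle hcard]

theorem center_comm (u : G) (hu : u ∈ center G) (w : G) : u * w = w * u :=
  (mem_center_iff.1 hu w).symm

namespace Hyp

variable [Finite G] {p c : ℕ}

/-- Commuting noncentral elements for two different primes have the same centraliser. -/
theorem centralizer_eq_of_ne (H : Hyp p c G) {q r : ℕ} {x y : G} (hx : Good p q x)
    (hy : Good p r y) (hqr : q ≠ r) (hxy : x * y = y * x) :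
    centralizer ({x} : Set G) = centralizer {y} := by
  obtain ⟨hq, hqp, hxq, hxc⟩ := hx
  obtain ⟨hr, hrp, hyr, hyc⟩ := hy
  have hcop := coprime_orders hq hr hqr hxq hyr
  have hmx : x ∈ zpowers (x * y) := mem_zpowers_mul hxy hcop
  have hmy : y ∈ zpowers (x * y) := by
    have := mem_zpowers_mul (x := y) (y := x) hxy.symm hcop.symm
    rwa [← hxy] at this
  have hne : x * y ∉ center G := fun h => hxc ((zpowers_le.2 h) hmx)
  have hreg := regular_mul hxy (regular_of_isPP H.prime hq hqp hxq)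
    (regular_of_isPP H.prime hr hrp hyr)
  have hle : ∀ w ∈ zpowers (x * y), centralizer ({x * y} : Set G) ≤ centralizer {w} := by
    intro w hw a ha
    obtain ⟨n, rfl⟩ := mem_zpowers_iff.1 hw
    exact mem_centralizer_singleton_iff.2
      ((show Commute a (x * y) from mem_centralizer_singleton_iff.1 ha).zpow_right n).eq
  have e : ∀ w ∈ zpowers (x * y), (orderOf w).Coprime p → w ∉ center G →
      centralizer ({x * y} : Set G) = centralizer {w} := fun w hw hwr hwc =>
    eq_of_le_of_card_ge (hle w hw) (by rw [H.card_eq _ hreg hne, H.card_eq w hwr hwc])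
  rw [← e x hmx (regular_of_isPP H.prime hq hqp hxq) hxc,
    e y hmy (regular_of_isPP H.prime hr hrp hyr) hyc]

omit [Finite G] in
theorem card_centralizer (H : Hyp p c G) {q : ℕ} {x : G} (hx : Good p q x) :
    Nat.card (centralizer ({x} : Set G)) = c :=
  H.card_eq x (regular_of_isPP H.prime hx.1 hx.2.1 hx.2.2.1) hx.2.2.2

/-- The centraliser of a noncentral element contains noncentral elements for every prime with
such elements. -/
theorem exists_good_mem (H : Hyp p c G) {q r : ℕ} {x y : G} (hx : Good p q x)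
    (hy : Good p r y) : ∃ y' : G, Good p r y' ∧ y' ∈ centralizer ({x} : Set G) := by
  by_contra hno
  push Not at hno
  haveI := Fact.mk hy.1
  obtain ⟨S, hSK, hS, hcard⟩ := exists_sylow_le r (centralizer ({x} : Set G))
  have hSZ : S ≤ center G := fun a ha => by
    by_contra hac
    exact hno a ⟨hy.1, hy.2.1, isPP_of_mem hS ha, hac⟩ (hSK ha)
  have hpg : IsPGroup r ↥(zpowers y ⊔ S) := by
    haveI : S.Normal := ⟨fun n hn g => by
      rw [← center_comm n (hSZ hn) g, mul_inv_cancel_right]; exact hn⟩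
    obtain ⟨k, hk⟩ := hy.2.2.1
    refine IsPGroup.to_sup_of_normal_right ?_ hS
    exact IsPGroup.of_card (by rw [Nat.card_zpowers, hk])
  have hle : zpowers y ⊔ S ≤ centralizer ({y} : Set G) :=
    sup_le (zpowers_le.2 (self_mem y)) (hSZ.trans (center_le y))
  have hT : Nat.card S = r ^ (Nat.card (centralizer ({y} : Set G))).factorization r := by
    rw [hcard, H.card_centralizer hx, H.card_centralizer hy]
  have := eq_of_card_part hpg hle le_sup_right hT
  exact hy.2.2.2 (hSZ (this ▸ mem_sup_left (mem_zpowers y)))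

/-- Commuting noncentral elements of prime power order have the same centraliser. -/
theorem centralizer_eq (H : Hyp p c G) (h2 : TwoVertices p G) {q r : ℕ} {x y : G}
    (hx : Good p q x) (hy : Good p r y) (hxy : y ∈ centralizer ({x} : Set G)) :
    centralizer ({y} : Set G) = centralizer {x} := by
  have hc : y * x = x * y := mem_centralizer_singleton_iff.1 hxy
  rcases ne_or_eq r q with hne | rfl
  · exact H.centralizer_eq_of_ne hy hx hne hc
  obtain ⟨s, w, hs, hw⟩ := h2 r
  obtain ⟨w', hw', hwx⟩ := H.exists_good_mem hx hw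
  have e1 : centralizer ({w'} : Set G) = centralizer {x} :=
    H.centralizer_eq_of_ne hw' hx hs (mem_centralizer_singleton_iff.1 hwx)
  rw [← e1] at hxy
  rw [← e1]
  exact H.centralizer_eq_of_ne hy hw' (Ne.symm hs) (mem_centralizer_singleton_iff.1 hxy)

/-- An element of prime power order prime to `p` of a centraliser is central in it. -/
theorem comm_of_mem (H : Hyp p c G) (h2 : TwoVertices p G) {q s : ℕ} {x u w : G}
    (hx : Good p q x) (hs : s.Prime) (hsp : s ≠ p) (hu : IsPP s u)
    (hux : u ∈ centralizer ({x} : Set G)) (hwx : w ∈ centralizer ({x} : Set G)) :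
    u * w = w * u := by
  by_cases huc : u ∈ center G
  · exact center_comm u huc w
  have := H.centralizer_eq h2 hx ⟨hs, hsp, hu, huc⟩ hux
  rw [← this] at hwx
  exact (mem_centralizer_singleton_iff.1 hwx).symm

theorem mem_sub_iff (H : Hyp p c G) (h2 : TwoVertices p G) {q r : ℕ} {x : G} (hx : Good p q x)
    (hr : r.Prime) (hrp : r ≠ p) {u : G} :
    u ∈ ppSub r (centralizer ({x} : Set G)) ↔ u ∈ centralizer ({x} : Set G) ∧ IsPP r u :=
  mem_ppSub_iff hr fun _ ha _ hb h _ => H.comm_of_mem h2 hx hr hrp h ha hb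

theorem card_sub (H : Hyp p c G) (h2 : TwoVertices p G) {q r : ℕ} {x : G} (hx : Good p q x)
    (hr : r.Prime) (hrp : r ≠ p) :
    Nat.card (ppSub r (centralizer ({x} : Set G))) = r ^ c.factorization r := by
  haveI := Fact.mk hr
  rw [card_ppSub fun _ ha _ hb h _ => H.comm_of_mem h2 hx hr hrp h ha hb,
    H.card_centralizer hx]

theorem isPGroup_sub (H : Hyp p c G) (h2 : TwoVertices p G) {q r : ℕ} {x : G} (hx : Good p q x)
    [hr : Fact r.Prime] (hrp : r ≠ p) : IsPGroup r (ppSub r (centralizer ({x} : Set G))) :=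
  isPGroup_of_forall fun _ hu => ((H.mem_sub_iff h2 hx hr.out hrp).1 hu).2

/-- The `r`-elements of a centraliser are stable under its normaliser. -/
theorem conj_mem_sub (H : Hyp p c G) (h2 : TwoVertices p G) {q r : ℕ} {x g u : G}
    (hx : Good p q x) (hr : r.Prime) (hrp : r ≠ p)
    (hg : g ∈ normalizer (centralizer ({x} : Set G) : Set G))
    (hu : u ∈ ppSub r (centralizer ({x} : Set G))) :
    g * u * g⁻¹ ∈ ppSub r (centralizer ({x} : Set G)) := by
  rw [H.mem_sub_iff h2 hx hr hrp] at hu ⊢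
  exact ⟨(mem_normalizer_iff.1 hg u).1 hu.1, isPP_conj hu.2 g⟩

/-- A noncentral element of a centraliser is fixed only by that centraliser. -/
theorem mem_of_commute (H : Hyp p c G) (h2 : TwoVertices p G) {q r : ℕ} {x g u : G}
    (hx : Good p q x) (hu : Good p r u) (hux : u ∈ centralizer ({x} : Set G))
    (h : g * u = u * g) : g ∈ centralizer ({x} : Set G) :=
  H.centralizer_eq h2 hx hu hux ▸ mem_centralizer_singleton_iff.2 h

omit [Finite G] in
theorem good_conj {q : ℕ} {x : G} (hx : Good p q x) (g : G) : Good p q (g * x * g⁻¹) := by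
  refine ⟨hx.1, hx.2.1, isPP_conj hx.2.2.1 g, fun h => hx.2.2.2 ?_⟩
  have := Normal.conj_mem (inferInstance : (center G).Normal) _ h g⁻¹
  rwa [show g⁻¹ * (g * x * g⁻¹) * g⁻¹⁻¹ = x by group] at this

end Hyp

end CfsgLib.SolvStruct.TwoRegSizes
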