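import Cfsg.Agent.Lib.SolvStruct.TwoRegSizes.SylowParts
import Cfsg.Agent.Lib.SolvStruct.PiElements
import Cfsg.Agent.Lib.Coprime.Basic
import Cfsg.Agent.Lib.Base.Cores
import Cfsg.Agent.Lib.Base.MinimalNormal
import Cfsg.Agent.Lib.CharApps.Kazarin

/-!
# Two class sizes of `p`-regular elements: a single prime that is not full does not occur

If all primes except `q` are full, a second centre element of a Sylow `q`-subgroup has a class of
`p`-power size modulo `O_p(G)Z(G)`, so by Kazarin's theorem there is a normal subgroup `M` with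
`M / O_p(G)Z(G)` a nontrivial group of prime power order; its Sylow subgroup reduces the group to
`O_p(G)N(C)` for one centraliser `C`, and then every `q`-element lies in `C`.
-/

set_option autoImplicit false
set_option linter.style.haveILetI false

open Subgroup Cfsg CfsgLib.Base

universe u

namespace CfsgLib.SolvStruct.TwoRegSizes

variable {G : Type u} [Group G] [Finite G] {p c : ℕ}

/-- An element of prime power order prime to `p` in `O_p(G)Z(G)` is central. -/
theorem mem_center_of_mem_core {r : ℕ} (hp : p.Prime) (hr : r.Prime) (hrp : r ≠ p) {x : G}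
    (hx : IsPP r x) (h : x ∈ pCore p G ⊔ center G) : x ∈ center G := by
  haveI := Fact.mk hp
  let π := QuotientGroup.mk' (center G)
  have h1 : π x ∈ (pCore p G).map π := by
    have := mem_map_of_mem π h
    rwa [Subgroup.map_sup, show (center G).map π = ⊥ from
      (Subgroup.map_eq_bot_iff _).2 (by rw [QuotientGroup.ker_mk']), sup_bot_eq] at this
  refine (QuotientGroup.eq_one_iff _).1 (eq_one_of_two_primes hp hr (Ne.symm hrp)
    (isPP_of_mem ((isPGroup_pCore p G).map π) h1) ?_)
  exact isPP_of_dvd hr hx (orderOf_map_dvd π x)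

namespace Hyp

/-- A prime other than `p` and `q` is full. -/
theorem full_of_other (H : Hyp p c G) {q q' r : ℕ} [Fact r.Prime] (hrp : r ≠ p) (hrq : r ≠ q)
    {x : G} (hx : Good p q' x)
    (hothers : ∀ r : ℕ, r.Prime → r ≠ q → ∀ y : G, Good p r y →
      c.factorization r = (Nat.card G).factorization r) :
    c.factorization r = (Nat.card G).factorization r := by
  have hr : r.Prime := Fact.out
  let S : Sylow r G := default
  by_cases h : (S : Subgroup G) ≤ center G
  · exact H.full_of_le hx (h.trans (center_le x))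
  · obtain ⟨y, hy, hyc⟩ := SetLike.not_le_iff_exists.1 h
    exact hothers r hr hrq y ⟨hr, hrp, isPP_of_mem S.isPGroup' hy, hyc⟩

/-- There is a normal subgroup above `O_p(G)Z(G)` with a quotient of prime power order. -/
theorem exists_normal_step (H : Hyp p c G) (h2 : TwoVertices p G) {q : ℕ} [hq : Fact q.Prime]
    {x₀ : G} (hx₀ : Good p q x₀)
    (hothers : ∀ r : ℕ, r.Prime → r ≠ q → ∀ y : G, Good p r y →
      c.factorization r = (Nat.card G).factorization r) :
    ∃ (M : Subgroup G) (s : ℕ), s.Prime ∧ M.Normal ∧ pCore p G ⊔ center G < M ∧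
      ∃ k, (pCore p G ⊔ center G).relIndex M = s ^ k := by
  have hp := H.prime
  obtain ⟨Q, x, hx, hxQ, hQ⟩ := H.exists_data hx₀
  haveI : (pCore p G ⊔ center G).Normal := inferInstance
  let f := QuotientGroup.mk' (pCore p G ⊔ center G)
  have hsurj : Function.Surjective f := QuotientGroup.mk'_surjective _
  have hD : ∀ g : G, x⁻¹ * (g * x * g⁻¹) ∈ center G →
      g ∈ (centralizer ({f x} : Set _)).comap f := by
    intro g hg
    rw [mem_comap, mem_centralizer_singleton_iff]
    have h1 : f (x⁻¹ * (g * x * g⁻¹)) = 1 :=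
      (QuotientGroup.eq_one_iff _).2 (mem_sup_right hg)
    rw [map_mul, map_inv, inv_mul_eq_one, map_mul, map_mul, map_inv] at h1
    exact eq_mul_inv_iff_mul_eq.1 h1 |>.symm
  have hdvd : ∀ s : ℕ, s.Prime → s ∣ (centralizer ({f x} : Set _)).index → s = p := by
    intro s hs hsd
    haveI := Fact.mk hs
    by_contra hsp
    rw [← index_comap_of_surjective _ hsurj] at hsd
    rcases eq_or_ne s q with rfl | hsq
    · exact Q.not_dvd_index' (index_ne_zero_of_finite)
        (hsd.trans (index_dvd_of_le fun g hg => hD g (comm_center_iff.1 (hQ g hg))))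
    · have hfull := H.full_of_other hsp hsq hx hothers
      have hle : centralizer ({x} : Set G) ≤ (centralizer ({f x} : Set _)).comap f := by
        intro g hg
        refine hD g ?_
        rw [mem_centralizer_singleton_iff.1 hg, mul_inv_cancel_right, inv_mul_cancel]
        exact (center G).one_mem
      have h1 := hsd.trans (index_dvd_of_le hle)
      have hmul := (centralizer ({x} : Set G)).card_mul_index
      rw [H.card_centralizer hx] at hmul
      have hc0 : c ≠ 0 := H.card_centralizer hx ▸ Nat.card_pos.ne'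
      have hi0 : (centralizer ({x} : Set G)).index ≠ 0 := index_ne_zero_of_finite
      have h3 := congrArg (fun n => n.factorization s) hmul
      simp only [Nat.factorization_mul hc0 hi0, Finsupp.coe_add, Pi.add_apply, hfull] at h3
      have := hs.factorization_pos_of_dvd hi0 h1
      omega
  have hne : f x ≠ 1 := fun h => hx.2.2.2
    (mem_center_of_mem_core hp hq.out hx.2.1 hx.2.2.1 ((QuotientGroup.eq_one_iff _).1 h))
  have hidx := Nat.eq_prime_pow_of_unique_prime_dvd
    (index_ne_zero_of_finite (H := centralizer ({f x} : Set _))) (fun {s} hs hsd => hdvd s hs hsd)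
  have hsol := CharApps.Kazarin.isSolvable_normalClosure (f x) hp hidx
  obtain ⟨M₀, hM₀le, hM₀⟩ := exists_isMinimalNormal_le (N := normalClosure ({f x} : Set _))
    (fun h => hne (mem_bot.1 (h ▸ subset_normalClosure (Set.mem_singleton _))))
  obtain ⟨s, hs, -, -, hpg⟩ :=
    hM₀.exists_prime (Coprime.isSolvable_of_le hM₀le hsol)
  haveI := Fact.mk hs
  haveI := hM₀.normal
  refine ⟨M₀.comap f, s, hs, inferInstance, lt_of_le_of_ne ?_ ?_, ?_⟩
  · exact fun a ha => mem_comap.2 ((QuotientGroup.eq_one_iff a).2 ha ▸ M₀.one_mem :)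
  · intro he
    refine hM₀.ne_bot ?_
    rw [← map_comap_eq_self_of_surjective hsurj M₀, ← he]
    exact (Subgroup.map_eq_bot_iff _).2 (QuotientGroup.ker_mk' _).ge
  · obtain ⟨k, hk⟩ := IsPGroup.iff_card.1 hpg
    refine ⟨k, ?_⟩
    have e : ((⊥ : Subgroup _).comap f).relIndex (M₀.comap f) = (⊥ : Subgroup _).relIndex M₀ := by
      rw [relIndex_comap, map_comap_eq_self_of_surjective hsurj]
    rw [MonoidHom.comap_bot, QuotientGroup.ker_mk', relIndex_bot_left] at e
    rw [e, hk]

/-- A single prime cannot fail to be full. -/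
theorem not_one_nonfull (H : Hyp p c G) (h2 : TwoVertices p G) {q : ℕ} [hq : Fact q.Prime]
    {x₀ : G} (hx₀ : Good p q x₀)
    (hnf : c.factorization q ≠ (Nat.card G).factorization q)
    (hothers : ∀ r : ℕ, r.Prime → r ≠ q → ∀ y : G, Good p r y →
      c.factorization r = (Nat.card G).factorization r) : False := by
  have hp := H.prime
  haveI := Fact.mk hp
  obtain ⟨r, y₁, hrq, hy₁⟩ := h2 q
  haveI := Fact.mk hy₁.1
  obtain ⟨M, s, hs, hMn, hBM, k, hk⟩ := H.exists_normal_step h2 hx₀ hothers
  haveI := Fact.mk hs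
  obtain ⟨S₀, hS₀M, hS₀, hS₀card⟩ := exists_sylow_le s M
  -- `M = O_p(G) Z(G) S₀`
  have hM : pCore p G ⊔ center G ⊔ S₀ = M := by
    refine le_antisymm (sup_le hBM.le hS₀M) ?_
    rw [← relIndex_eq_one]
    have h1 : (pCore p G ⊔ center G ⊔ S₀).relIndex M ∣ s ^ k :=
      hk ▸ relIndex_dvd_of_le_left M le_sup_left
    obtain ⟨i, -, hi⟩ := (Nat.dvd_prime_pow hs).1 h1
    have h3 : (pCore p G ⊔ center G ⊔ S₀).relIndex M ∣ S₀.relIndex M :=
      relIndex_dvd_of_le_left M le_sup_right
    have h4 : Nat.card S₀ * S₀.relIndex M = Nat.card M := by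
      rw [← relIndex_bot_left S₀, ← relIndex_bot_left M, relIndex_mul_relIndex _ _ _ bot_le hS₀M]
    have h5 : ¬ s ∣ S₀.relIndex M := fun h => by
      have : s ^ ((Nat.card M).factorization s + 1) ∣ Nat.card M := by
        rw [pow_succ]
        conv_rhs => rw [← h4, hS₀card]
        exact Nat.mul_dvd_mul dvd_rfl h
      have := (hs.pow_dvd_iff_le_factorization Nat.card_pos.ne').1 this
      omega
    rcases Nat.eq_zero_or_pos i with rfl | hipos
    · rw [hi, pow_zero]
    · exact absurd ((dvd_pow_self s hipos.ne').trans (hi ▸ h3)) h5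
  -- Frattini
  let T : Sylow s M := Sylow.ofCard (S₀.subgroupOf M)
    (by rw [Nat.card_congr (subgroupOfEquivOfLe hS₀M).toEquiv, hS₀card])
  have hF : normalizer (S₀ : Set G) ⊔ M = ⊤ := by
    have e : (T : Subgroup M).map M.subtype = S₀ := map_subgroupOf_eq_of_le hS₀M
    have := T.normalizer_sup_eq_top
    rwa [e] at this
  have hG : pCore p G ⊔ normalizer (S₀ : Set G) = ⊤ := by
    refine top_le_iff.1 (hF ▸ sup_le le_sup_right ?_)
    rw [← hM]
    exact sup_le (sup_le le_sup_left (le_sup_of_le_right fun z hz => mem_normalizer_iff.2 fun a => by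
      rw [center_comm z hz a, mul_inv_cancel_right]))
      (le_sup_of_le_right Subgroup.le_normalizer)
  have hrel : ∀ {t : ℕ}, t.Prime → t ≠ p → ∀ z ∈ M, IsPP t z → t ≠ s → z ∈ center G := by
    intro t ht htp z hz hzt hts
    refine mem_center_of_mem_core hp ht htp hzt ((QuotientGroup.eq_one_iff _).1
      (eq_one_of_two_primes ht hs hts
        (x := QuotientGroup.mk' (pCore p G ⊔ center G) z)
        (isPP_of_dvd ht hzt (orderOf_map_dvd _ z)) (isPP_of_pow_eq_one hs (k := k) ?_)))
    rw [← map_pow, ← hk]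
    refine (QuotientGroup.eq_one_iff _).2 ?_
    haveI : ((pCore p G ⊔ center G).subgroupOf M).Normal := inferInstance
    exact pow_index_mem ((pCore p G ⊔ center G).subgroupOf M) (⟨z, hz⟩ : M)
  have hsp : s ≠ p := by
    rintro rfl
    have htop : normalizer (S₀ : Set G) = ⊤ := by
      refine top_le_iff.1 (hG ▸ sup_le ?_ le_rfl)
      obtain he := eq_of_card_part (K := M) (S := pCore s G ⊔ S₀)
        (IsPGroup.to_sup_of_normal_left (isPGroup_pCore s G) hS₀)
        (sup_le (le_sup_left.trans hBM.le) hS₀M) le_sup_right hS₀card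
      rw [he]
      exact (le_sup_left : pCore s G ≤ _).trans Subgroup.le_normalizer
    haveI : S₀.Normal := normalizer_eq_top_iff.1 htop
    exact hBM.not_ge (hM ▸ sup_le le_rfl ((le_pCore hS₀).trans le_sup_left))
  obtain ⟨a, haS, hac, hcase⟩ : ∃ a ∈ S₀, a ∉ center G ∧
      ∀ g ∈ S₀, g ∈ centralizer ({a} : Set G) := by
    have hncen : ¬ S₀ ≤ center G := fun h =>
      hBM.not_ge (hM ▸ sup_le le_rfl (h.trans le_sup_right))
    obtain ⟨a₀, ha₀, ha₀c⟩ := SetLike.not_le_iff_exists.1 hncen
    have hgood₀ : Good p s a₀ := ⟨hs, hsp, isPP_of_mem hS₀ ha₀, ha₀c⟩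
    rcases eq_or_ne s q with hsq | hsq
    · subst hsq
      obtain ⟨Q, hQ⟩ := hS₀.exists_le_sylow
      have hV : S₀ = (Q : Subgroup G) ⊓ M :=
        eq_of_card_part (Q.isPGroup'.to_le inf_le_left) inf_le_right (le_inf hQ hS₀M) hS₀card
      have hnorm : (Q : Subgroup G) ≤ normalizer (S₀ : Set G) := by
        rw [hV]
        intro g hg
        refine mem_normalizer_iff.2 fun v => ?_
        constructor
        · exact fun hv => ⟨Subgroup.mul_mem _ (Subgroup.mul_mem _ hg hv.1) (Subgroup.inv_mem _ hg),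
            hMn.conj_mem _ hv.2 g⟩
        · intro hv
          have h1 := Subgroup.mul_mem _ (Subgroup.mul_mem _ (Subgroup.inv_mem _ hg) hv.1) hg
          have h2' := hMn.conj_mem _ hv.2 g⁻¹
          rw [show g⁻¹ * (g * v * g⁻¹) * g = v by group] at h1
          rw [show g⁻¹ * (g * v * g⁻¹) * g⁻¹⁻¹ = v by group] at h2'
          exact ⟨h1, h2'⟩
      obtain ⟨a, ha, hac, hQa⟩ := exists_second Q.isPGroup' hQ hnorm hncen
      refine ⟨a, ha, hac, fun g hg => ?_⟩
      have hga : Good p s a := ⟨hs, hsp, isPP_of_mem hS₀ ha, hac⟩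
      obtain ⟨y, hy, hyC⟩ := H.exists_good_mem hga hy₁
      have hgN := normalizer_of_second hQa (hQ hg)
      have hgy : g * y * g⁻¹ ∈ centralizer ({a} : Set G) := (mem_normalizer_iff.1 hgN y).1 hyC
      have hcomm := H.comm_of_mem h2 hga hy.1 hy.2.1 (isPP_inv hy.2.2.1)
        ((centralizer _).inv_mem hyC) hgy
      have hz : IsPP r (y⁻¹ * (g * y * g⁻¹)) :=
        isPP_mul hy.1 (isPP_inv hy.2.2.1) (isPP_conj hy.2.2.1 g) hcomm
      have hzM : y⁻¹ * (g * y * g⁻¹) ∈ M := by
        rw [show y⁻¹ * (g * y * g⁻¹) = y⁻¹ * g * y⁻¹⁻¹ * g⁻¹ by group]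
        exact M.mul_mem (hMn.conj_mem _ (hS₀M hg) y⁻¹) (M.inv_mem (hS₀M hg))
      exact H.mem_of_commute h2 hga hy hyC (commute_of_comm_mem_center hs hy.1 (Ne.symm hrq)
        (isPP_of_mem hS₀ hg) hy.2.2.1 (hrel hy.1 hy.2.1 _ hzM hz hrq))
    · exact ⟨a₀, ha₀, ha₀c, fun g hg => mem_centralizer_singleton_iff.2
        (H.comm_of_full h2 hsp hgood₀ (hothers s hs hsq a₀ hgood₀) hS₀ hg ha₀)⟩
  have hga : Good p s a := ⟨hs, hsp, isPP_of_mem hS₀ haS, hac⟩
  let C := centralizer ({a} : Set G)
  have hN : normalizer (S₀ : Set G) ≤ normalizer (C : Set G) := by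
    intro n hn
    refine mem_normalizer_of_centralizer_conj ?_
    exact H.centralizer_eq h2 hga (good_conj hga n)
      (hcase _ ((mem_normalizer_iff.1 hn a).1 haS))
  have hGN : pCore p G ⊔ normalizer (C : Set G) = ⊤ :=
    top_le_iff.1 (hG ▸ sup_le_sup_left hN _)
  -- a `q`-element normalising `C` outside it
  obtain ⟨g, hgN, hgC, hgq⟩ : ∃ g ∈ normalizer (C : Set G), g ∉ C ∧ IsPP q g := by
    obtain ⟨R, hRN, hR, hRcard⟩ := exists_sylow_le q (normalizer (C : Set G))
    by_contra hno
    push Not at hno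
    have hRC : R ≤ C := fun g hg => by_contra fun h => hno g (hRN hg) h (isPP_of_mem hR hg)
    have h1 : q ^ (Nat.card G).factorization q ∣ Nat.card (normalizer (C : Set G)) := by
      haveI : (pCore p G).Normal := inferInstance
      have hcard := Coprime.card_sup_mul_card_inf (H := normalizer (C : Set G)) (N := pCore p G)
        (by rw [normalizer_eq_top_iff.2 (inferInstance : (pCore p G).Normal)]; exact le_top)
      rw [sup_comm, hGN, card_top] at hcard
      have h : q ^ (Nat.card G).factorization q ∣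
          Nat.card (normalizer (C : Set G)) * Nat.card (pCore p G) :=
        hcard ▸ (Nat.ordProj_dvd (Nat.card G) q).trans (dvd_mul_right _ _)
      obtain ⟨i, hi⟩ := IsPGroup.iff_card.1 (isPGroup_pCore p G)
      rw [hi] at h
      exact (((Nat.coprime_primes hq.out hp).2 hx₀.2.1).pow _ i).dvd_of_dvd_mul_right h
    have h3 := (hq.out.pow_dvd_iff_le_factorization Nat.card_pos.ne').1 h1
    have h4 := card_dvd_of_le hRC
    rw [hRcard, H.card_centralizer hga] at h4
    have h5 := (hq.out.pow_dvd_iff_le_factorization (H.card_centralizer hga ▸ Nat.card_pos.ne')).1 h4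
    have h6 := (Nat.factorization_le_iff_dvd
      (H.card_centralizer hga ▸ Nat.card_pos.ne') Nat.card_pos.ne').2 (H.c_dvd hga) q
    exact hnf (by omega)
  have hgood : Good p q g := ⟨hq.out, hx₀.2.1, hgq, fun h => hgC (center_le a h)⟩
  obtain ⟨y', hy', hy'g⟩ := H.exists_good_mem hgood hy₁
  let π := QuotientGroup.mk' (pCore p G)
  haveI : (C.map π).Normal := by
    refine normalizer_eq_top_iff.1 (top_le_iff.1 ?_)
    calc ⊤ = (pCore p G ⊔ normalizer (C : Set G)).map π := by
          rw [hGN, map_top_of_surjective _ (QuotientGroup.mk'_surjective _)]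
      _ ≤ _ := by
          rw [Subgroup.map_sup, (Subgroup.map_eq_bot_iff _).2 (QuotientGroup.ker_mk' _).ge, bot_sup_eq]
          exact le_normalizer_map π
  have hy'C : π y' ∈ C.map π := by
    obtain ⟨i, hi⟩ := hy'.2.2.1
    have hcop : (r ^ i).Coprime (C.map π).index := by
      refine Nat.Coprime.pow_left i ((hy'.1.coprime_iff_not_dvd).2 fun h => ?_)
      have h1 := h.trans (index_map_dvd C (QuotientGroup.mk'_surjective _))
      have hc0 : c ≠ 0 := H.card_centralizer hga ▸ Nat.card_pos.ne'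
      have hmul := C.card_mul_index
      rw [H.card_centralizer hga] at hmul
      have h3 := congrArg (fun n => n.factorization r) hmul
      simp only [Nat.factorization_mul hc0 index_ne_zero_of_finite, Finsupp.coe_add, Pi.add_apply,
        hothers r hy₁.1 hrq y₁ hy₁] at h3
      have := hy₁.1.factorization_pos_of_dvd index_ne_zero_of_finite h1
      omega
    obtain ⟨j, hj⟩ := exists_pow_eq_self_of_coprime
      (x := π y') (n := (C.map π).index) ((hcop.symm).coprime_dvd_right (hi ▸ orderOf_map_dvd π y'))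
    rw [← hj]
    exact pow_mem (pow_index_mem _ (π y')) j
  obtain ⟨y₀, hy₀, hy₀e⟩ := hy'C
  obtain ⟨i, -, hi⟩ : ∃ i, True ∧ orderOf (π y') = r ^ i := by
    obtain ⟨i, hi⟩ := isPP_of_dvd hy'.1 hy'.2.2.1 (orderOf_map_dvd π y')
    exact ⟨i, trivial, hi⟩
  obtain ⟨n, ⟨j, hj⟩, hne⟩ := PiElements.exists_pow_primePow (π.comp C.subtype) hy₁.1
    (⟨y₀, hy₀⟩ : C) (c := i) (by
      show orderOf (π y₀) = r ^ i
      rw [hy₀e, hi])
  have hyC : y₀ ^ n ∈ C := pow_mem hy₀ n
  have hypp : IsPP r (y₀ ^ n) := ⟨j, by rw [← hj, ← Subgroup.orderOf_coe]; rfl⟩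
  have hye : π (y₀ ^ n) = π y' := hne.trans hy₀e
  set y := y₀ ^ n
  have hgy : g * y * g⁻¹ ∈ C := (mem_normalizer_iff.1 hgN y).1 hyC
  have hcomm := H.comm_of_mem h2 hga hy₁.1 hy₁.2.1 (isPP_inv hypp) (C.inv_mem hyC) hgy
  have hz : y⁻¹ * (g * y * g⁻¹) = 1 := by
    refine eq_one_of_two_primes hy₁.1 hp hy₁.2.1 (isPP_mul hy₁.1 (isPP_inv hypp)
      (isPP_conj hypp g) hcomm) (isPP_of_mem (isPGroup_pCore p G) ((QuotientGroup.eq_one_iff _).1 ?_))
    show π (y⁻¹ * (g * y * g⁻¹)) = 1
    rw [map_mul, map_mul, map_mul, map_inv, map_inv, hye, ← map_inv, ← map_inv, ← map_mul,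
      ← map_mul, ← map_mul, (mem_centralizer_singleton_iff.1 hy'g).symm, mul_inv_cancel_right,
      inv_mul_cancel, map_one]
  have hgy' : g * y = y * g := mul_inv_eq_iff_eq_mul.1 (inv_mul_eq_one.1 hz).symm
  by_cases hyc : y ∈ center G
  · have hyy : y' * y⁻¹ = 1 := by
      refine eq_one_of_two_primes hy₁.1 hp hy₁.2.1 (isPP_mul hy₁.1 hy'.2.2.1 (isPP_inv hypp)
        (center_comm y⁻¹ ((center G).inv_mem hyc) y').symm)
        (isPP_of_mem (isPGroup_pCore p G) ((QuotientGroup.eq_one_iff _).1 ?_))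
      show π (y' * y⁻¹) = 1
      rw [map_mul, map_inv, hye, mul_inv_cancel]
    exact hy'.2.2.2 (mul_inv_eq_one.1 hyy ▸ hyc)
  · exact hgC (H.mem_of_commute h2 hga ⟨hy₁.1, hy₁.2.1, hypp, hyc⟩ hyC hgy')

end Hyp

end CfsgLib.SolvStruct.TwoRegSizes
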