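import Cfsg.Agent.Lib.SolvStruct.TwoRegSizes.TwoNonabelian
import Cfsg.Agent.Lib.SolvStruct.TwoRegSizes.OneNonabelian
import Cfsg.Agent.Lib.FgsB.Basic

/-!
# Two class sizes of `p`-regular elements: an abelian `p`-complement, or `G = PQ × A`
-/

set_option autoImplicit false
set_option linter.style.haveILetI false

open Subgroup

universe u

namespace CfsgLib.SolvStruct.TwoRegSizes

variable {G : Type u} [Group G] [Finite G] {p c : ℕ}

/-- With two vertices all primes other than `p` are full and the centraliser has an abelian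
`p`-complement of `G`. -/
theorem exists_abelian_complement (H : Hyp p c G) (h2 : TwoVertices p G) :
    ∃ K : Subgroup G, IsMulCommutative K ∧ ¬ p ∣ Nat.card K ∧ ∃ k : ℕ, K.index = p ^ k := by
  have hp := H.prime
  haveI := Fact.mk hp
  have hfull : ∀ r : ℕ, r.Prime → r ≠ p → ∀ y : G, Good p r y →
      c.factorization r = (Nat.card G).factorization r := by
    intro r hr _ y hy
    haveI := Fact.mk hr
    by_contra hnf
    refine H.not_one_nonfull h2 hy hnf fun t ht htr z hz => ?_
    haveI := Fact.mk ht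
    by_contra hnt
    exact H.not_two_nonfull h2 htr hz hy hnt hnf
  obtain ⟨q, x, hqp, hx⟩ := h2 p
  let S : Set G := {u | u ∈ centralizer ({x} : Set G) ∧ ∃ s : ℕ, s.Prime ∧ s ≠ p ∧ IsPP s u}
  have hcomm : ∀ u ∈ S, ∀ w ∈ S, u * w = w * u := fun u hu w hw => by
    obtain ⟨s, hs, hsp, hus⟩ := hu.2
    exact H.comm_of_mem h2 hx hs hsp hus hu.1 hw.1
  haveI : IsMulCommutative (closure S) := Subgroup.isMulCommutative_closure hcomm
  have hreg : ∀ u ∈ closure S, (orderOf u).Coprime p := by
    intro u hu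
    induction hu using closure_induction with
    | mem a ha =>
      obtain ⟨s, hs, hsp, has⟩ := ha.2
      exact regular_of_isPP hp hs hsp has
    | one => simp
    | mul a b ha hb iha ihb =>
      exact regular_mul (congrArg Subtype.val (mul_comm' (⟨a, ha⟩ : closure S) ⟨b, hb⟩)) iha ihb
    | inv a _ iha => rwa [orderOf_inv]
  refine ⟨closure S, inferInstance, fun hdvd => ?_, ?_⟩
  · obtain ⟨u, hu⟩ := exists_prime_orderOf_dvd_card' p hdvd
    have h := hreg u.1 u.2
    rw [Subgroup.orderOf_coe, hu, Nat.coprime_self] at h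
    exact hp.ne_one h
  · refine ⟨_, Nat.eq_prime_pow_of_unique_prime_dvd index_ne_zero_of_finite fun {s} hs hsd => ?_⟩
    by_contra hsp
    haveI := Fact.mk hs
    have hf := H.full_of_other (q := p) hsp hsp hx fun r hr hrp y hy => hfull r hr hrp y hy
    have hle : ppSub s (centralizer ({x} : Set G)) ≤ closure S :=
      (closure_le _).2 fun u hu => subset_closure ⟨hu.1, s, hs, hsp, hu.2⟩
    have h1 := card_dvd_of_le hle
    rw [H.card_sub h2 hx hs hsp, hf] at h1
    have h3 := (closure S).card_mul_index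
    have h4 : s ^ ((Nat.card G).factorization s + 1) ∣ Nat.card G := by
      conv_rhs => rw [← h3]
      rw [pow_succ]
      exact Nat.mul_dvd_mul h1 hsd
    have := (hs.pow_dvd_iff_le_factorization Nat.card_pos.ne').1 h4
    omega

/-- With one vertex `q` the group is `PQ × A` with `A` central. -/
theorem exists_product {q : ℕ} (hp : p.Prime) (hq : q.Prime) (hqp : q ≠ p)
    (h : ∀ (r : ℕ) (y : G), Good p r y → r = q) :
    ∃ (_ : Fact q.Prime) (P : Sylow p G) (Q : Sylow q G) (A : Subgroup G), q ≠ p ∧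
      A ≤ center G ∧
      Nat.card ↥((P : Subgroup G) ⊔ (Q : Subgroup G)) = Nat.card P * Nat.card Q ∧
      ((P : Subgroup G) ⊔ (Q : Subgroup G)).Normal ∧
      ((P : Subgroup G) ⊔ (Q : Subgroup G)) ⊓ A = ⊥ ∧
      ((P : Subgroup G) ⊔ (Q : Subgroup G)) ⊔ A = ⊤ := by
  haveI := Fact.mk hp
  haveI := Fact.mk hq
  let P : Sylow p G := default
  let Q : Sylow q G := default
  let A : Subgroup G :=
    { carrier := {z | z ∈ center G ∧ (orderOf z).Coprime (p * q)}
      one_mem' := ⟨(center G).one_mem, by simp⟩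
      mul_mem' := fun {a b} ha hb => ⟨(center G).mul_mem ha.1 hb.1,
        regular_mul (center_comm a ha.1 b) ha.2 hb.2⟩
      inv_mem' := fun {a} ha => ⟨(center G).inv_mem ha.1, by rw [orderOf_inv]; exact ha.2⟩ }
  have hAZ : A ≤ center G := fun _ hz => hz.1
  haveI : A.Normal := ⟨fun n hn g => by
    rw [← center_comm n (hAZ hn) g, mul_inv_cancel_right]; exact hn⟩
  have hAcard : (Nat.card A).Coprime (p * q) := by
    by_contra hc
    obtain ⟨r, hr, hr1, hr2⟩ := Nat.Prime.not_coprime_iff_dvd.1 hc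
    haveI := Fact.mk hr
    obtain ⟨z, hz⟩ := exists_prime_orderOf_dvd_card' r hr1
    have h1 := z.2.2
    rw [Subgroup.orderOf_coe, hz] at h1
    exact hr.coprime_iff_not_dvd.1 h1 hr2
  have hindex : ∀ r : ℕ, r.Prime → r ∣ A.index → r = p ∨ r = q := by
    intro r hr hrd
    by_contra hne
    push Not at hne
    haveI := Fact.mk hr
    let R : Sylow r G := default
    have hRA : (R : Subgroup G) ≤ A := fun y hy => by
      obtain ⟨k, hk⟩ := isPP_of_mem R.isPGroup' hy
      refine ⟨by_contra fun hc => hne.2 (h r y ⟨hr, hne.1, ⟨k, hk⟩, hc⟩), ?_⟩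
      rw [hk]
      exact Nat.Coprime.pow_left k (Nat.Coprime.mul_right ((Nat.coprime_primes hr hp).2 hne.1)
        ((Nat.coprime_primes hr hq).2 hne.2))
    exact R.not_dvd_index' index_ne_zero_of_finite (hrd.trans (index_dvd_of_le hRA))
  have hcop : (Nat.card A).Coprime A.index := by
    refine Nat.coprime_of_dvd fun r hr hr1 hr2 => ?_
    refine hr.coprime_iff_not_dvd.1 (hAcard.coprime_dvd_left hr1) ?_
    rcases hindex r hr hr2 with rfl | rfl
    · exact dvd_mul_right _ _
    · exact dvd_mul_left _ _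
  obtain ⟨K, hK⟩ := exists_right_complement'_of_coprime hcop
  have hKN : K.Normal := by
    refine normalizer_eq_top_iff.1 (top_le_iff.1 (hK.sup_eq_top ▸ sup_le ?_ Subgroup.le_normalizer))
    exact fun z hz => mem_normalizer_iff.2 fun a => by
      rw [center_comm z (hAZ hz) a, mul_inv_cancel_right]
  have hKidx : K.index = Nat.card A := hK.index_eq_card
  have hKcard : Nat.card K = A.index := hK.symm.index_eq_card.symm
  have hle : ∀ {r : ℕ} [Fact r.Prime], r ∣ p * q → ∀ R : Sylow r G, (R : Subgroup G) ≤ K := by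
    intro r hr hrd R u hu
    obtain ⟨k, hk⟩ := isPP_of_mem R.isPGroup' hu
    refine (QuotientGroup.eq_one_iff u).1 (orderOf_eq_one_iff.1 (Nat.eq_one_of_dvd_coprimes
      ((hAcard.coprime_dvd_right hrd).pow_right k) ?_ (hk ▸ orderOf_map_dvd (QuotientGroup.mk' K) u)))
    rw [← hKidx, index_eq_card]
    exact orderOf_dvd_natCard _
  have hPQ : (P : Subgroup G) ⊔ (Q : Subgroup G) ≤ K :=
    sup_le (hle (dvd_mul_right _ _) P) (hle (dvd_mul_left _ _) Q)
  have hc : (Nat.card P).Coprime (Nat.card Q) := by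
    rw [P.card_eq_multiplicity, Q.card_eq_multiplicity]
    exact ((Nat.coprime_primes hp hq).2 hqp.symm).pow _ _
  have h1 : Nat.card P * Nat.card Q ∣ Nat.card ↥((P : Subgroup G) ⊔ (Q : Subgroup G)) :=
    hc.mul_dvd_of_dvd_of_dvd (card_dvd_of_le le_sup_left) (card_dvd_of_le le_sup_right)
  have h3 : A.index ∣ Nat.card P * Nat.card Q := by
    rw [P.card_eq_multiplicity, Q.card_eq_multiplicity, Nat.dvd_iff_prime_pow_dvd_dvd]
    intro r k hr hk
    rcases Nat.eq_zero_or_pos k with rfl | hk0
    · simp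
    have hd : r ^ k ∣ Nat.card G := hk.trans (index_dvd_card A)
    have hk' := (hr.pow_dvd_iff_le_factorization Nat.card_pos.ne').1 hd
    rcases hindex r hr ((dvd_pow_self r hk0.ne').trans hk) with rfl | rfl
    · exact (pow_dvd_pow r hk').trans (dvd_mul_right _ _)
    · exact (pow_dvd_pow r hk').trans (dvd_mul_left _ _)
  have heq : (P : Subgroup G) ⊔ (Q : Subgroup G) = K := by
    refine eq_of_le_of_card_ge hPQ ?_
    rw [hKcard]
    exact (Nat.le_of_dvd (Nat.mul_pos Nat.card_pos Nat.card_pos) h3).trans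
      (Nat.le_of_dvd Nat.card_pos h1)
  refine ⟨inferInstance, P, Q, A, hqp, hAZ, ?_, heq ▸ hKN, ?_, ?_⟩
  · refine le_antisymm ?_ (Nat.le_of_dvd Nat.card_pos h1)
    rw [heq, hKcard]
    exact Nat.le_of_dvd (Nat.mul_pos Nat.card_pos Nat.card_pos) h3
  · rw [heq]
    exact disjoint_iff.1 hK.symm.disjoint
  · rw [heq, sup_comm]
    exact hK.sup_eq_top

/-- The group version of the statement. -/
theorem two_regular_sizes (hp : p.Prime)
    (h2 : Set.ncard (Set.range fun x : {x : G // (orderOf x).Coprime p} =>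
      (ConjClasses.mk (x : G)).carrier.ncard) = 2) :
    (∃ K : Subgroup G, IsMulCommutative K ∧ ¬ p ∣ Nat.card K ∧ ∃ k : ℕ, K.index = p ^ k) ∨
    (∃ (q : ℕ) (_ : Fact q.Prime) (P : Sylow p G) (Q : Sylow q G) (A : Subgroup G), q ≠ p ∧
      A ≤ center G ∧
      Nat.card ↥((P : Subgroup G) ⊔ (Q : Subgroup G)) = Nat.card P * Nat.card Q ∧
      ((P : Subgroup G) ⊔ (Q : Subgroup G)).Normal ∧
      ((P : Subgroup G) ⊔ (Q : Subgroup G)) ⊓ A = ⊥ ∧
      ((P : Subgroup G) ⊔ (Q : Subgroup G)) ⊔ A = ⊤) := by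
  obtain ⟨a, b, hab, hrange⟩ := Set.ncard_eq_two.1 h2
  have hval : ∀ x : G, (orderOf x).Coprime p →
      (centralizer ({x} : Set G)).index = a ∨ (centralizer ({x} : Set G)).index = b := by
    intro x hx
    have h := Set.mem_range_self
      (f := fun x : {x : G // (orderOf x).Coprime p} => (ConjClasses.mk (x : G)).carrier.ncard)
      ⟨x, hx⟩
    rw [hrange] at h
    simpa [FgsB.ncard_carrier_eq_index] using h
  have hcen : ∀ x : G, x ∈ center G ↔ (centralizer ({x} : Set G)).index = 1 := by
    intro x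
    rw [index_eq_one]
    exact ⟨fun hx => eq_top_iff.2 fun g _ => mem_centralizer_singleton_iff.2
      (center_comm x hx g).symm, fun h => mem_center_iff.2 fun g =>
      mem_centralizer_singleton_iff.1 (h ▸ mem_top g)⟩
  obtain ⟨x₀, hx₀, hx₀c⟩ : ∃ x : G, (orderOf x).Coprime p ∧ x ∉ center G := by
    by_contra hno
    push Not at hno
    have hsub : ∀ v ∈ Set.range (fun x : {x : G // (orderOf x).Coprime p} =>
        (ConjClasses.mk (x : G)).carrier.ncard), v = 1 := by
      rintro v ⟨x, rfl⟩
      simpa [FgsB.ncard_carrier_eq_index] using (hcen x.1).1 (hno x.1 x.2)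
    exact hab ((hsub a (hrange ▸ Or.inl rfl)).trans (hsub b (hrange ▸ Or.inr rfl)).symm)
  have hone : a = 1 ∨ b = 1 :=
    ((hval 1 (by simp)).imp Eq.symm Eq.symm).imp
      (fun h => h.trans ((hcen 1).1 (center G).one_mem))
      (fun h => h.trans ((hcen 1).1 (center G).one_mem))
  have H : Hyp p (Nat.card (centralizer ({x₀} : Set G))) G := by
    refine ⟨hp, fun x hx hxc => ?_⟩
    have e : (centralizer ({x} : Set G)).index = (centralizer ({x₀} : Set G)).index := by
      have h1 : (centralizer ({x} : Set G)).index ≠ 1 := fun h => hxc ((hcen x).2 h)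
      have h3 : (centralizer ({x₀} : Set G)).index ≠ 1 := fun h => hx₀c ((hcen x₀).2 h)
      rcases hval x hx with h | h <;> rcases hval x₀ hx₀ with h' | h' <;>
        rcases hone with h'' | h'' <;> omega
    have e1 := (centralizer ({x} : Set G)).card_mul_index
    have e2 := (centralizer ({x₀} : Set G)).card_mul_index
    rw [← e2, e] at e1
    exact Nat.eq_of_mul_eq_mul_right (Nat.pos_of_ne_zero index_ne_zero_of_finite) e1
  by_cases htwo : TwoVertices p G
  · exact Or.inl (exists_abelian_complement H htwo)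
  · right
    unfold TwoVertices at htwo
    push Not at htwo
    obtain ⟨q, hq⟩ := htwo
    obtain ⟨r, y, hy⟩ : ∃ r, ∃ y : G, Good p r y := by
      by_contra hno
      push Not at hno
      refine hx₀c (PiElements.mem_of_forall_primePow fun r hr hrd n hn => ?_)
      by_contra hc
      refine hno r (x₀ ^ n) ⟨hr, fun h => ?_, hn, hc⟩
      exact hr.coprime_iff_not_dvd.1 (hx₀.coprime_dvd_left hrd) (h ▸ dvd_rfl)
    have hall : ∀ (t : ℕ) (z : G), Good p t z → t = q := fun t z hz =>
      by_contra fun hne => hq t z hne hz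
    have hrq : r = q := hall r y hy
    subst hrq
    exact ⟨r, exists_product hp hy.1 hy.2.1 hall⟩

end CfsgLib.SolvStruct.TwoRegSizes
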