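import Cfsg.Agent.Lib.SolvStruct.TwoRegSizes.Basic

/-!
# Two class sizes of `p`-regular elements: Sylow subgroups

A prime `r` is *full* when the centralisers contain Sylow `r`-subgroups; those are then abelian,
and otherwise the centre of a Sylow `r`-subgroup is central in the group.
-/

set_option autoImplicit false
set_option linter.style.haveILetI false

open Subgroup MulAction
open scoped commutatorElement Pointwise

namespace CfsgLib.SolvStruct.TwoRegSizes

variable {G : Type*} [Group G]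

theorem comm_center_iff {x g : G} :
    ⁅x, g⁆ ∈ center G ↔ x⁻¹ * (g * x * g⁻¹) ∈ center G := by
  have e : x⁻¹ * (g * x * g⁻¹) = x⁻¹ * ⁅x, g⁆⁻¹ * x⁻¹⁻¹ := by
    simp only [commutatorElement_def]; group
  constructor
  · intro h
    rw [e]
    exact Normal.conj_mem inferInstance _ ((center G).inv_mem h) _
  · intro h
    have := Normal.conj_mem (inferInstance : (center G).Normal) _ ((center G).inv_mem h) x
    rwa [show x * (x⁻¹ * (g * x * g⁻¹))⁻¹ * x⁻¹ = ⁅x, g⁆ by
      simp only [commutatorElement_def]; group] at this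

theorem mem_of_smul_sylow {r : ℕ} {Q Q' : Sylow r G} {h u : G} (he : h • Q = Q') :
    u ∈ (Q' : Subgroup G) ↔ h⁻¹ * u * h ∈ (Q : Subgroup G) := by
  rw [← he, Sylow.coe_subgroup_smul, mem_pointwise_smul_iff_inv_smul_mem, MulAut.smul_def,
    MulAut.conj_inv_apply]

/-- An element with a power of order `q` modulo a subgroup. -/
theorem exists_pow_prime_mem [Finite G] {q : ℕ} {C : Subgroup G} {g : G}
    (hg : IsPP q g) (hgC : g ∉ C) : ∃ n : ℕ, g ^ q ^ n ∉ C ∧ (g ^ q ^ n) ^ q ∈ C := by
  by_contra hno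
  push Not at hno
  have h : ∀ n : ℕ, g ^ q ^ n ∉ C := by
    intro n
    induction n with
    | zero => simpa using hgC
    | succ n ih =>
      rw [pow_succ, pow_mul]
      exact hno n ih
  obtain ⟨k, hk⟩ := hg
  refine h k ?_
  rw [← hk, pow_orderOf_eq_one]
  exact C.one_mem

theorem exists_second [Finite G] {r : ℕ} [Fact r.Prime] {Q V : Subgroup G} (hQ : IsPGroup r Q)
    (hVQ : V ≤ Q) (hQV : Q ≤ normalizer (V : Set G)) (hV : ¬ V ≤ center G) :
    ∃ x ∈ V, x ∉ center G ∧ ∀ g ∈ Q, ⁅x, g⁆ ∈ center G := by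
  obtain ⟨x₀, hx₀, hx₀c⟩ := SetLike.not_le_iff_exists.1 hV
  obtain ⟨x, ⟨hx, hxc⟩, hD⟩ := exists_descend hQ.isNilpotent
    (fun x => x ∈ V ∧ x ∉ center G) (fun x => ∀ g ∈ Q, ⁅x, g⁆ ∈ center G)
    (fun x h => hVQ h.1) (fun h => h.2 (center G).one_mem)
    (fun x hx hD => by
      push Not at hD
      obtain ⟨g, hg, hgx⟩ := hD
      refine ⟨g, hg, ?_, hgx⟩
      rw [show ⁅x, g⁆ = x * (g * x⁻¹ * g⁻¹) by simp only [commutatorElement_def]; group]
      exact V.mul_mem hx.1 ((mem_normalizer_iff.1 (hQV hg) x⁻¹).1 (V.inv_mem hx.1)))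
    (x₀ := x₀) ⟨hx₀, hx₀c⟩
  exact ⟨x, hx, hxc, hD⟩

theorem normalizer_of_second {x : G} {Q : Subgroup G} (h : ∀ g ∈ Q, ⁅x, g⁆ ∈ center G) :
    Q ≤ normalizer (centralizer ({x} : Set G) : Set G) := fun g hg =>
  mem_normalizer_of_comm_center (comm_center_iff.1 (h g hg))

theorem comm_center_sub {r : ℕ} : ∀ u ∈ center G, ∀ w ∈ center G,
    IsPP r u → IsPP r w → u * w = w * u := fun u hu w _ _ _ => center_comm u hu w

namespace Hyp

variable [Finite G] {p c : ℕ}

theorem c_dvd (H : Hyp p c G) {q : ℕ} {x : G} (hx : Good p q x) : c ∣ Nat.card G :=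
  H.card_centralizer hx ▸ card_subgroup_dvd_card _

/-- If some Sylow subgroup is centralised by a noncentral element, the prime is full. -/
theorem full_of_le (H : Hyp p c G) {q r : ℕ} [Fact r.Prime] {x : G} (hx : Good p q x)
    {Q : Sylow r G} (hQ : (Q : Subgroup G) ≤ centralizer ({x} : Set G)) :
    c.factorization r = (Nat.card G).factorization r := by
  have hr : r.Prime := Fact.out
  refine le_antisymm ((Nat.factorization_le_iff_dvd
    (H.card_centralizer hx ▸ Nat.card_pos.ne') Nat.card_pos.ne').2 (H.c_dvd hx) r) ?_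
  have := card_dvd_of_le hQ
  rw [H.card_centralizer hx, Q.card_eq_multiplicity] at this
  exact (hr.pow_dvd_iff_le_factorization (H.card_centralizer hx ▸ Nat.card_pos.ne')).1 this

/-- For a prime that is not full the centre of a Sylow subgroup is central. -/
theorem mem_center_of_not_full (H : Hyp p c G) {r : ℕ} [hr : Fact r.Prime] (hrp : r ≠ p)
    (hnf : c.factorization r ≠ (Nat.card G).factorization r) {Q : Sylow r G} {z : G}
    (hz : z ∈ (Q : Subgroup G)) (hzQ : ∀ w ∈ (Q : Subgroup G), z * w = w * z) :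
    z ∈ center G := by
  by_contra hzc
  exact hnf (H.full_of_le (x := z) ⟨hr.out, hrp, isPP_of_mem Q.isPGroup' hz, hzc⟩
    fun w hw => mem_centralizer_singleton_iff.2 (hzQ w hw).symm)

/-- For a full prime the subgroups of prime power order are abelian. -/
theorem comm_of_full (H : Hyp p c G) (h2 : TwoVertices p G) {q r : ℕ} [hr : Fact r.Prime]
    (hrp : r ≠ p) {x : G} (hx : Good p q x)
    (hf : c.factorization r = (Nat.card G).factorization r) {S : Subgroup G} (hS : IsPGroup r S)
    {u w : G} (hu : u ∈ S) (hw : w ∈ S) : u * w = w * u := by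
  let A := ppSub r (centralizer ({x} : Set G))
  let T : Sylow r G := Sylow.ofCard A (by rw [H.card_sub h2 hx hr.out hrp, hf])
  obtain ⟨Q, hQ⟩ := hS.exists_le_sylow
  obtain ⟨h, hh⟩ := exists_smul_eq G T Q
  have hA : ∀ {v : G}, v ∈ S → h⁻¹ * v * h ∈ A := fun hv => by
    simpa [T] using (mem_of_smul_sylow hh).1 (hQ hv)
  have hAu := (H.mem_sub_iff h2 hx hr.out hrp).1 (hA hu)
  have := H.comm_of_mem h2 hx hr.out hrp hAu.2 hAu.1 (ppSub_le r _ (hA hw))
  calc u * w = h * (h⁻¹ * u * h * (h⁻¹ * w * h)) * h⁻¹ := by group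
    _ = h * (h⁻¹ * w * h * (h⁻¹ * u * h)) * h⁻¹ := by rw [this]
    _ = w * u := by group

/-- A vertex that is not full has a second centre element. -/
theorem exists_data (H : Hyp p c G) {r : ℕ} [hr : Fact r.Prime] {y : G} (hy : Good p r y) :
    ∃ (Q : Sylow r G) (x : G), Good p r x ∧ x ∈ (Q : Subgroup G) ∧
      ∀ g ∈ (Q : Subgroup G), ⁅x, g⁆ ∈ center G := by
  obtain ⟨k, hk⟩ := hy.2.2.1
  obtain ⟨Q, hQ⟩ := (IsPGroup.of_card (p := r) (n := k) (G := zpowers y)
    (by rw [Nat.card_zpowers, hk])).exists_le_sylow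
  obtain ⟨x, hx, hxc, h⟩ := exists_second Q.isPGroup' le_rfl Subgroup.le_normalizer
    (fun hle => hy.2.2.2 (hle (hQ (mem_zpowers y))))
  exact ⟨Q, x, ⟨hr.out, hy.2.1, isPP_of_mem Q.isPGroup' hx, hxc⟩, hx, h⟩

/-- A Sylow subgroup normalising a centraliser contains its elements of prime power order. -/
theorem sub_le_sylow (H : Hyp p c G) (h2 : TwoVertices p G) {q r : ℕ} [hr : Fact r.Prime]
    (hrp : r ≠ p) {x : G} (hx : Good p q x) {Q : Sylow r G}
    (hQ : (Q : Subgroup G) ≤ normalizer (centralizer ({x} : Set G) : Set G)) :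
    ppSub r (centralizer ({x} : Set G)) ≤ Q := by
  have hnorm : (Q : Subgroup G) ≤ normalizer (ppSub r (centralizer ({x} : Set G)) : Set G) := by
    intro g hg
    refine mem_normalizer_iff.2 fun u => ⟨H.conj_mem_sub h2 hx hr.out hrp (hQ hg), fun hu => ?_⟩
    have := H.conj_mem_sub h2 hx hr.out hrp ((normalizer _).inv_mem (hQ hg)) hu
    rwa [show g⁻¹ * (g * u * g⁻¹) * g⁻¹⁻¹ = u by group] at this
  have hp' : IsPGroup r ↥((Q : Subgroup G) ⊔ ppSub r (centralizer ({x} : Set G))) :=
    IsPGroup.to_sup_of_normal_right' Q.isPGroup' (H.isPGroup_sub h2 hx hrp) hnorm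
  rw [← Q.is_maximal' hp' le_sup_left]
  exact le_sup_right

/-- A Sylow subgroup for a prime that is not full has an element outside the centraliser. -/
theorem exists_not_mem (H : Hyp p c G) {q r : ℕ} [Fact r.Prime] {x : G} (hx : Good p q x)
    (hnf : c.factorization r ≠ (Nat.card G).factorization r) (Q : Sylow r G) :
    ∃ g ∈ (Q : Subgroup G), g ∉ centralizer ({x} : Set G) :=
  SetLike.not_le_iff_exists.1 fun hle => hnf (H.full_of_le hx hle)

theorem card_noncentral (H : Hyp p c G) (h2 : TwoVertices p G) {q r : ℕ} [hr : Fact r.Prime]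
    (hrp : r ≠ p) {x : G} (hx : Good p q x) :
    ((ppSub r (centralizer ({x} : Set G)) : Set G) \ (center G : Set G)).ncard =
      r ^ c.factorization r - r ^ (Nat.card (center G)).factorization r := by
  have e : (ppSub r (centralizer ({x} : Set G)) : Set G) \ (center G : Set G) =
      (ppSub r (centralizer ({x} : Set G)) : Set G) \ (ppSub r (center G) : Set G) := by
    ext u
    simp only [Set.mem_sdiff, SetLike.mem_coe, mem_ppSub_iff hr.out comm_center_sub]
    constructor
    · exact fun h => ⟨h.1, fun h' => h.2 h'.1⟩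
    · exact fun h => ⟨h.1, fun h' => h.2 ⟨h', ((H.mem_sub_iff h2 hx hr.out hrp).1 h.1).2⟩⟩
  have hle : ppSub r (center G) ≤ ppSub r (centralizer ({x} : Set G)) := by
    refine (closure_le _).2 fun u hu => ?_
    exact subset_closure ⟨center_le x hu.1, hu.2⟩
  rw [e, Set.ncard_sdiff (show (ppSub r (center G) : Set G) ⊆ _ from hle),
    ← Nat.card_coe_set_eq, ← Nat.card_coe_set_eq]
  exact congrArg₂ (· - ·) (H.card_sub h2 hx hr.out hrp) (card_ppSub comm_center_sub)

theorem center_part_lt (H : Hyp p c G) (h2 : TwoVertices p G) {q r : ℕ} [hr : Fact r.Prime]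
    {x y : G} (hx : Good p q x) (hy : Good p r y) :
    (Nat.card (center G)).factorization r < c.factorization r := by
  obtain ⟨y', hy', hmem⟩ := H.exists_good_mem hx hy
  have hne : ((ppSub r (centralizer ({x} : Set G)) : Set G) \ (center G : Set G)).ncard ≠ 0 := by
    rw [ne_eq, Set.ncard_eq_zero]
    exact Set.nonempty_iff_ne_empty.1
      ⟨y', (H.mem_sub_iff h2 hx hr.out hy.2.1).2 ⟨hmem, hy'.2.2.1⟩, hy'.2.2.2⟩
  rw [H.card_noncentral h2 hy.2.1 hx] at hne
  by_contra hle
  exact hne (Nat.sub_eq_zero_of_le (Nat.pow_le_pow_right hr.out.pos (not_lt.1 hle)))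

/-- The Sylow subgroup normalising a centraliser permutes the noncentral `r`-elements of it
semiregularly modulo the centraliser. -/
theorem semiregular_bound (H : Hyp p c G) (h2 : TwoVertices p G) {q r : ℕ} [hq : Fact q.Prime]
    [hr : Fact r.Prime] (hqr : q ≠ r) (hrp : r ≠ p) {x y : G} (hx : Good p q x) (hy : Good p r y)
    {Q : Sylow q G} (hQ : (Q : Subgroup G) ≤ normalizer (centralizer ({x} : Set G) : Set G)) :
    q ^ ((Nat.card G).factorization q - c.factorization q) <
      r ^ (c.factorization r - (Nat.card (center G)).factorization r) := by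
  let T : Set G := (ppSub r (centralizer ({x} : Set G)) : Set G) \ (center G : Set G)
  have hcl : ∀ g ∈ (Q : Subgroup G), ∀ u ∈ T, g * u * g⁻¹ ∈ T := fun g hg u hu =>
    ⟨H.conj_mem_sub h2 hx hr.out hrp (hQ hg) hu.1, fun h => hu.2 (by
      have := Normal.conj_mem (inferInstance : (center G).Normal) _ h g⁻¹
      rwa [show g⁻¹ * (g * u * g⁻¹) * g⁻¹⁻¹ = u by group] at this)⟩
  letI : MulAction (Q : Subgroup G) T :=
    { smul := fun g u => ⟨g.1 * u.1 * g.1⁻¹, hcl g g.2 u u.2⟩
      one_smul := fun u => Subtype.ext (show (1 : G) * u.1 * 1⁻¹ = u.1 by simp)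
      mul_smul := fun a b u => Subtype.ext (show a.1 * b.1 * u.1 * (a.1 * b.1)⁻¹ =
        a.1 * (b.1 * u.1 * b.1⁻¹) * a.1⁻¹ by group) }
  have hstab : ∀ u : T, stabilizer (Q : Subgroup G) u =
      (centralizer ({x} : Set G)).subgroupOf (Q : Subgroup G) := by
    intro u
    obtain ⟨⟨hux, hur⟩, huc⟩ := (⟨(H.mem_sub_iff h2 hx hr.out hrp).1 u.2.1, u.2.2⟩ : _ ∧ _)
    ext g
    rw [mem_stabilizer_iff, mem_subgroupOf, Subtype.ext_iff]
    change g.1 * u.1 * g.1⁻¹ = u.1 ↔ _
    rw [mul_inv_eq_iff_eq_mul]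
    exact ⟨fun h => H.mem_of_commute h2 hx ⟨hr.out, hrp, hur, huc⟩ hux h,
      fun h => (H.comm_of_mem h2 hx hr.out hrp hur hux h).symm⟩
  have hidx : ((centralizer ({x} : Set G)).subgroupOf (Q : Subgroup G)).index =
      q ^ ((Nat.card G).factorization q - c.factorization q) := by
    have e : (Q : Subgroup G) ⊓ centralizer ({x} : Set G) =
        ppSub q (centralizer ({x} : Set G)) :=
      le_antisymm (fun u hu => (H.mem_sub_iff h2 hx hq.out hx.2.1).2
        ⟨hu.2, isPP_of_mem Q.isPGroup' hu.1⟩)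
        (le_inf (H.sub_le_sylow h2 hx.2.1 hx hQ) (ppSub_le q _))
    have h1 := ((centralizer ({x} : Set G)).subgroupOf (Q : Subgroup G)).card_mul_index
    rw [← card_map_of_injective (Q : Subgroup G).subtype_injective, subgroupOf_map_subtype,
      inf_comm, e, H.card_sub h2 hx hq.out hx.2.1, Q.card_eq_multiplicity] at h1
    refine Nat.eq_of_mul_eq_mul_left (pow_pos hq.out.pos _) (h1.trans ?_)
    rw [← pow_add, Nat.add_sub_cancel' ((Nat.factorization_le_iff_dvd
      (H.card_centralizer hx ▸ Nat.card_pos.ne') Nat.card_pos.ne').2 (H.c_dvd hx) q)]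
  have hdvd : q ^ ((Nat.card G).factorization q - c.factorization q) ∣
      r ^ c.factorization r - r ^ (Nat.card (center G)).factorization r := by
    classical
    rw [← H.card_noncentral h2 hrp hx, ← Nat.card_coe_set_eq]
    show _ ∣ Nat.card T
    haveI := Fintype.ofFinite T
    haveI := Fintype.ofFinite (Quotient (orbitRel (Q : Subgroup G) T))
    rw [Nat.card_congr (selfEquivSigmaOrbitsQuotientStabilizer (Q : Subgroup G) T), Nat.card_sigma]
    refine Finset.dvd_sum fun o _ => ?_
    rw [← Subgroup.index_eq_card, hstab, hidx]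
  have hlt := H.center_part_lt h2 hx hy
  set z := (Nat.card (center G)).factorization r
  set d := c.factorization r - z with hd
  have e : r ^ c.factorization r - r ^ z = r ^ z * (r ^ d - 1) := by
    rw [Nat.mul_sub, mul_one, ← pow_add, Nat.add_sub_cancel' hlt.le]
  rw [e] at hdvd
  have h3 := (((Nat.coprime_primes hq.out hr.out).2 hqr).pow _ z).dvd_of_dvd_mul_left hdvd
  have h4 : 1 < r ^ d := Nat.one_lt_pow (by omega) hr.out.one_lt
  have := Nat.le_of_dvd (by omega) h3
  omega

end Hyp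

end CfsgLib.SolvStruct.TwoRegSizes
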