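import Cfsg.Agent.Lib.SolvStruct.TwoRegSizes.Unique

/-!
# Two class sizes of `p`-regular elements: at most one prime is not full

For two primes that are not full, neither has a unique centraliser type (for `2` an element of the
other prime would fix the only involution modulo the centre, for an odd prime an element acting as
`-1` on a pair of lines would have to commute with a transvection), and then the semiregular
actions bound each Sylow part by the other.
-/

set_option autoImplicit false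
set_option linter.style.haveILetI false

open Subgroup MulAction
open scoped commutatorElement Pointwise

namespace CfsgLib.SolvStruct.TwoRegSizes

variable {G : Type*} [Group G]

theorem orderOf_eq_two_parts [Finite G] (s : G) :
    ∃ k m : ℕ, Odd m ∧ IsPP 2 (s ^ m) ∧ orderOf s = 2 ^ k * m := by
  obtain ⟨k, m, hm, h⟩ :=
    Nat.exists_eq_pow_mul_and_not_dvd (orderOf_pos s).ne' 2 Nat.prime_two.ne_one
  exact ⟨k, m, Nat.odd_iff.2 (Nat.two_dvd_ne_zero.1 hm),
    isPP_of_pow_eq_one Nat.prime_two (k := k) (by rw [← pow_mul, mul_comm, ← h, pow_orderOf_eq_one]), h⟩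

/-- A conjugation inverting an element does so for all odd powers. -/
theorem conj_pow_odd {s a : G} (h : s * a * s⁻¹ = a⁻¹) {m : ℕ} (hm : Odd m) :
    s ^ m * a * (s ^ m)⁻¹ = a⁻¹ := by
  have h2 : s * a⁻¹ * s⁻¹ = a := by
    have := congrArg (·⁻¹) h
    simpa [mul_assoc] using this
  obtain ⟨j, rfl⟩ := hm
  induction j with
  | zero => simpa using h
  | succ j ih =>
    rw [show 2 * (j + 1) + 1 = (2 * j + 1) + 1 + 1 by ring, pow_succ', pow_succ',
      show s * (s * s ^ (2 * j + 1)) * a * (s * (s * s ^ (2 * j + 1)))⁻¹ =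
        s * (s * (s ^ (2 * j + 1) * a * (s ^ (2 * j + 1))⁻¹) * s⁻¹) * s⁻¹ by group, ih, h2, h]

theorem conj_mul_conj {x y a b d : G} (h1 : y * a * y⁻¹ = b) (h2 : x * b * x⁻¹ = d) :
    x * y * a * (x * y)⁻¹ = d := by
  rw [show x * y * a * (x * y)⁻¹ = x * (y * a * y⁻¹) * x⁻¹ by group, h1, h2]

namespace Hyp

variable [Finite G] {p c : ℕ}

/-- Without a unique type the centraliser part is at most the index. -/
theorem bound_of_not_unique (H : Hyp p c G) (h2 : TwoVertices p G) {q : ℕ} [hq : Fact q.Prime]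
    (hW : ¬ IsUnique p q G) :
    2 * c.factorization q ≤
      (Nat.card G).factorization q + (Nat.card (center G)).factorization q := by
  unfold IsUnique at hW
  push Not at hW
  obtain ⟨a, b, ha, hb, T, hT, haT, hbT, hne⟩ := hW
  let A := ppSub q (centralizer ({a} : Set G))
  let B := ppSub q (centralizer ({b} : Set G))
  have hinf : A ⊓ B ≤ ppSub q (center G) := by
    intro u hu
    obtain ⟨hua, huq⟩ := (H.mem_sub_iff h2 ha hq.out ha.2.1).1 (mem_inf.1 hu).1
    refine (mem_ppSub_iff hq.out comm_center_sub).2 ⟨?_, huq⟩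
    by_contra huc
    have hu' : Good p q u := ⟨hq.out, ha.2.1, huq, huc⟩
    exact hne ((H.centralizer_eq h2 ha hu' hua).symm.trans
      (H.centralizer_eq h2 hb hu' (ppSub_le q _ (mem_inf.1 hu).2)))
  have h1 : A.relIndex B ≤ A.relIndex T := by
    refine relIndex_le_of_le_right hbT ?_
    rw [Subgroup.relIndex]; exact Subgroup.index_ne_zero_of_finite
  have e1 := relIndex_mul_relIndex (⊥ : Subgroup G) (A ⊓ B) B bot_le inf_le_right
  rw [inf_relIndex_right, relIndex_bot_left, relIndex_bot_left] at e1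
  have e2 := relIndex_mul_relIndex (⊥ : Subgroup G) A T bot_le haT
  rw [relIndex_bot_left, relIndex_bot_left] at e2
  have hA := H.card_sub h2 ha hq.out ha.2.1
  have hB := H.card_sub h2 hb hq.out hb.2.1
  have hi := card_le_of_le hinf
  rw [card_ppSub comm_center_sub] at hi
  obtain ⟨Q, hQ⟩ := hT.exists_le_sylow
  have hn := card_le_of_le hQ
  rw [Q.card_eq_multiplicity] at hn
  have : q ^ (2 * c.factorization q) ≤
      q ^ ((Nat.card G).factorization q + (Nat.card (center G)).factorization q) := by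
    rw [two_mul, pow_add, pow_add]
    calc q ^ c.factorization q * q ^ c.factorization q
        = Nat.card A * (Nat.card ↥(A ⊓ B) * A.relIndex B) := by rw [e1, hA, hB]
      _ ≤ Nat.card A * (q ^ (Nat.card (center G)).factorization q * A.relIndex T) := by gcongr
      _ = Nat.card T * q ^ (Nat.card (center G)).factorization q := by rw [← e2]; ring
      _ ≤ _ := by gcongr
  exact (Nat.pow_le_pow_iff_right hq.out.one_lt).1 this

/-- The prime `2` has no unique type if another prime is not full. -/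
theorem not_unique_two (H : Hyp p c G) (h2 : TwoVertices p G) [hF : Fact (Nat.Prime 2)] {r : ℕ}
    [hr : Fact r.Prime] (hr2 : r ≠ 2) {x₂ y : G} (hx₂ : Good p 2 x₂) (hy : Good p r y)
    (hnf : c.factorization 2 ≠ (Nat.card G).factorization 2)
    (hnfr : c.factorization r ≠ (Nat.card G).factorization r) : ¬ IsUnique p 2 G := by
  intro hW
  let π := QuotientGroup.mk' (center G)
  obtain ⟨Q, a, ha, haQ, hQ⟩ := H.exists_data hx₂
  obtain ⟨R, xr, hxr, hxrR, hR⟩ := H.exists_data hy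
  obtain ⟨h, hh⟩ := H.exists_centralizer_eq_conj h2 hW ha hxr
  obtain ⟨k₀, hk₀, hk₀C⟩ := H.exists_not_mem hxr hnfr R
  -- an `r`-element normalising `C(a)` outside it
  let k := h⁻¹ * k₀ * h
  have hkq : IsPP r k := by
    have := isPP_conj (isPP_of_mem R.isPGroup' hk₀) h⁻¹
    rwa [inv_inv] at this
  have hkN : k ∈ normalizer (centralizer ({a} : Set G) : Set G) := by
    have h0 := normalizer_of_second hR hk₀
    rw [hh] at h0
    refine mem_normalizer_of_centralizer_conj (Subgroup.ext fun v => ?_)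
    have e := SetLike.ext_iff.1 (centralizer_conj_of_mem_normalizer h0) (h * v * h⁻¹)
    rw [show k₀ * (h * a * h⁻¹) * k₀⁻¹ = h * (k * a * k⁻¹) * h⁻¹ by simp only [k]; group] at e
    have e1 := mem_centralizer_conj_iff (g := h) (x := k * a * k⁻¹) (a := h * v * h⁻¹)
    have e2 := mem_centralizer_conj_iff (g := h) (x := a) (a := h * v * h⁻¹)
    rw [show h⁻¹ * (h * v * h⁻¹) * h = v by group] at e1 e2
    exact e1.symm.trans (e.trans e2)
  have hkC : k ∉ centralizer ({a} : Set G) := by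
    rw [hh, mem_centralizer_conj_iff] at hk₀C
    exact hk₀C
  -- a `2`-element of order two modulo `C(a)`
  obtain ⟨g₀, hg₀, hg₀C⟩ := H.exists_not_mem ha hnf Q
  have hg₀2 := isPP_of_mem Q.isPGroup' hg₀
  obtain ⟨n, hgC, hgq⟩ := exists_pow_prime_mem hg₀2 hg₀C
  set g := g₀ ^ 2 ^ n
  have hgQ : g ∈ (Q : Subgroup G) := pow_mem hg₀ _
  have hg : IsPP 2 g := isPP_of_mem Q.isPGroup' hgQ
  have hgN := normalizer_of_second hQ hgQ
  have hg2 : π g * π g = 1 := by
    rw [← map_mul, ← pow_two]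
    exact (QuotientGroup.eq_one_iff _).2 (H.pow_mem_center h2 ha hg hgC hgq)
  have hinv : ∀ u ∈ ppSub 2 (centralizer ({a} : Set G)), π g * π u * π g = (π u)⁻¹ := by
    intro u hu
    have hgu : g * u ∉ centralizer ({a} : Set G) := fun hh' =>
      hgC ((mul_mem_cancel_right (ppSub_le 2 _ hu)).1 hh')
    have hguQ : g * u ∈ (Q : Subgroup G) :=
      mul_mem hgQ (H.sub_le_sylow h2 ha.2.1 ha (normalizer_of_second hQ) hu)
    have hsq : (g * u) ^ 2 ∈ centralizer ({a} : Set G) := by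
      rw [show (g * u) ^ 2 = g * u * g⁻¹ * g ^ 2 * u by simp [pow_two, mul_assoc]]
      exact mul_mem (mul_mem ((mem_normalizer_iff.1 hgN u).1 (ppSub_le 2 _ hu)) hgq)
        (ppSub_le 2 _ hu)
    have := (QuotientGroup.eq_one_iff _).2
      (H.pow_mem_center h2 ha (isPP_of_mem Q.isPGroup' hguQ) hgu hsq)
    rw [← QuotientGroup.mk'_apply, pow_two, map_mul, map_mul] at this
    refine eq_inv_of_mul_eq_one_left ?_
    rw [← mul_assoc] at this
    exact this
  -- the unique involution of `A` modulo the centre is fixed by `k`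
  obtain ⟨u, huA, hwA, hwc, hwg, hwq⟩ := H.exists_config h2 hW ha hg hgN hgC hgq
  set w := ⁅u, g⁆
  have hkw : k * w * k⁻¹ ∈ ppSub 2 (centralizer ({a} : Set G)) :=
    H.conj_mem_sub h2 ha hF.out ha.2.1 hkN hwA
  have hsq' : (k * w * k⁻¹) ^ 2 ∈ center G := by
    rw [conj_pow]
    exact Normal.conj_mem inferInstance _ hwq k
  have hcen : ⁅k * w * k⁻¹, g⁆ ∈ center G := by
    refine (QuotientGroup.eq_one_iff _).1 ?_
    show π ⁅k * w * k⁻¹, g⁆ = 1
    have hs : π (k * w * k⁻¹) * π (k * w * k⁻¹) = 1 := by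
      rw [← map_mul, ← pow_two]; exact (QuotientGroup.eq_one_iff _).2 hsq'
    have e := hinv _ hkw
    rw [map_commutatorElement, commutatorElement_eq_one_iff_mul_comm, ← mul_left_inj (π g), e,
      mul_assoc, hg2, mul_one]
    exact (eq_inv_of_mul_eq_one_left hs)
  have hline := H.mem_line h2 ha hg hgC ⟨hwA, hwq, hwg⟩ ⟨hkw, hsq', hcen⟩ hwc
  have hw2 : orderOf (π w) = 2 := orderOf_eq_prime
    (by rw [← map_pow]; exact (QuotientGroup.eq_one_iff _).2 hwq)
    (fun h => hwc ((QuotientGroup.eq_one_iff _).1 h))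
  have hfix : π (k * w * k⁻¹) = π w := by
    obtain ⟨i, hi⟩ := mem_zpowers_iff.1 hline
    rcases Int.even_or_odd i with ⟨j, rfl⟩ | ⟨j, rfl⟩
    · exfalso
      rw [← two_mul, zpow_mul, zpow_ofNat, (hw2 ▸ pow_orderOf_eq_one (π w) : π w ^ 2 = 1),
        one_zpow] at hi
      refine hwc ?_
      have := Normal.conj_mem (inferInstance : (center G).Normal) _
        ((QuotientGroup.eq_one_iff _).1 hi.symm) k⁻¹
      rwa [show k⁻¹ * (k * w * k⁻¹) * k⁻¹⁻¹ = w by group] at this
    · rw [← hi, zpow_add, zpow_mul, zpow_ofNat, (hw2 ▸ pow_orderOf_eq_one (π w) : π w ^ 2 = 1),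
        one_zpow, one_mul, zpow_one]
  have hcomm := commute_of_comm_mem_center hr.out hF.out hr2 hkq
    ((H.mem_sub_iff h2 ha hF.out ha.2.1).1 hwA).2
    ((QuotientGroup.eq_one_iff _).1 (show π (w⁻¹ * (k * w * k⁻¹)) = 1 by
      rw [map_mul, hfix, map_inv, inv_mul_cancel]))
  exact hkC (H.mem_of_commute h2 ha ⟨hF.out, ha.2.1,
    ((H.mem_sub_iff h2 ha hF.out ha.2.1).1 hwA).2, hwc⟩ (ppSub_le 2 _ hwA) hcomm)

/-- An odd prime that is not full has no unique type. -/
theorem not_unique_odd (H : Hyp p c G) (h2 : TwoVertices p G) {q : ℕ} [hq : Fact q.Prime]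
    (hq2 : q ≠ 2) {x : G} (hx : Good p q x)
    (hnf : c.factorization q ≠ (Nat.card G).factorization q) : ¬ IsUnique p q G := by
  intro hW
  haveI : Fact (Nat.Prime 2) := ⟨Nat.prime_two⟩
  let π := QuotientGroup.mk' (center G)
  obtain ⟨Q, a, ha, haQ, hQ⟩ := H.exists_data hx
  obtain ⟨g₀, hg₀, hg₀C⟩ := H.exists_not_mem ha hnf Q
  obtain ⟨n, hgC, hgq⟩ := exists_pow_prime_mem (isPP_of_mem Q.isPGroup' hg₀) hg₀C
  set g := g₀ ^ q ^ n
  have hgQ : g ∈ (Q : Subgroup G) := pow_mem hg₀ _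
  have hg : IsPP q g := isPP_of_mem Q.isPGroup' hgQ
  have hgN := normalizer_of_second hQ hgQ
  have hgc : g ^ q ∈ center G := H.pow_mem_center h2 ha hg hgC hgq
  have hgg : Good p q g := ⟨hq.out, ha.2.1, hg, fun h => hgC (center_le a h)⟩
  obtain ⟨u, huA, hwA, hwc, hwg, hwq⟩ := H.exists_config h2 hW ha hg hgN hgC hgq
  set w := ⁅u, g⁆ with hw
  obtain ⟨hwC, hwpp⟩ := (H.mem_sub_iff h2 ha hq.out ha.2.1).1 hwA
  have hww : Good p q w := ⟨hq.out, ha.2.1, hwpp, hwc⟩
  have hwa : centralizer ({w} : Set G) = centralizer {a} := H.centralizer_eq h2 ha hww hwC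
  -- the symmetric configuration
  have hgw : ⁅g, w⁆ ∈ center G := by rw [comm_inv]; exact (center G).inv_mem hwg
  have hwN : w ∈ normalizer (centralizer ({g} : Set G) : Set G) :=
    mem_normalizer_of_comm_center (comm_center_iff.1 hgw)
  have hwnC : w ∉ centralizer ({g} : Set G) := fun h => hgC (hwa ▸ mem_symm h)
  obtain ⟨u', hu'A, hw'A, hw'c, hw'g, hw'q⟩ :=
    H.exists_config h2 hW hgg hwpp hwN hwnC (center_le g hwq)
  have hgA : g ∈ ppSub q (centralizer ({g} : Set G)) :=
    (H.mem_sub_iff h2 hgg hq.out hgg.2.1).2 ⟨self_mem g, hg⟩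
  have hline := H.mem_line h2 hgg hwpp hwnC ⟨hgA, hgc, hgw⟩ ⟨hw'A, hw'q, hw'g⟩ hgg.2.2.2
  -- the relations modulo the centre
  have ha1 : π w ≠ 1 := fun h => hwc ((QuotientGroup.eq_one_iff _).1 h)
  have haq : π w ^ q = 1 := by rw [← map_pow]; exact (QuotientGroup.eq_one_iff _).2 hwq
  have hab : π w * π g = π g * π w := mk_comm_eq_one hwg
  have hub : π u * π g * (π u)⁻¹ = π w * π g := by
    rw [← map_inv, ← map_mul, ← map_mul, ← map_mul, hw, commutatorElement_def]
    congr 1; group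
  have hua : π u * π w * (π u)⁻¹ = π w := by
    rw [← map_inv, ← map_mul, ← map_mul]
    congr 1
    rw [mul_inv_eq_iff_eq_mul]
    obtain ⟨h1, h1'⟩ := (H.mem_sub_iff h2 ha hq.out ha.2.1).1 huA
    exact H.comm_of_mem h2 ha hq.out ha.2.1 h1' h1 hwC
  have hu'b : π u' * π g * (π u')⁻¹ = π g := by
    rw [← map_inv, ← map_mul, ← map_mul]
    congr 1
    rw [mul_inv_eq_iff_eq_mul]
    obtain ⟨h1, h1'⟩ := (H.mem_sub_iff h2 hgg hq.out hgg.2.1).1 hu'A
    exact H.comm_of_mem h2 hgg hq.out hgg.2.1 h1' h1 (self_mem g)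
  have hgo : orderOf (π g) = q := orderOf_eq_prime
    (by rw [← map_pow]; exact (QuotientGroup.eq_one_iff _).2 hgc)
    (fun h => hgg.2.2.2 ((QuotientGroup.eq_one_iff _).1 h))
  obtain ⟨d, hd⟩ : ∃ d : G ⧸ center G, d = π ⁅u', w⁆ := ⟨_, rfl⟩
  have hd1 : d ≠ 1 := fun h => hw'c ((QuotientGroup.eq_one_iff _).1 (hd.symm.trans h))
  have hdo : orderOf d = q := orderOf_eq_prime
    (by rw [hd, ← map_pow]; exact (QuotientGroup.eq_one_iff _).2 hw'q) hd1
  have hdz : zpowers d = zpowers (π g) := eq_of_le_of_card_ge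
    (zpowers_le.2 (hd ▸ hline)) (by rw [Nat.card_zpowers, Nat.card_zpowers, hdo, hgo])
  obtain ⟨i, hi⟩ := mem_zpowers_iff.1 (hdz ▸ inv_mem (mem_zpowers (π g)) : (π g)⁻¹ ∈ zpowers d)
  have hu'a : π u' * π w * (π u')⁻¹ = d * π w := by
    rw [hd, ← map_inv, ← map_mul, ← map_mul, ← map_mul, commutatorElement_def]
    congr 1; group
  have hu'd : π u' * d * (π u')⁻¹ = d := by
    obtain ⟨j, hj⟩ := mem_zpowers_iff.1 (hd ▸ hline : d ∈ zpowers (π g))
    rw [← hj, ← conj_zpow, hu'b]
  obtain ⟨v, hv⟩ : ∃ v : G ⧸ center G, v = π u' ^ i := ⟨_, rfl⟩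
  have hva : v * π w * v⁻¹ = (π g)⁻¹ * π w := by
    rw [hv, ← hi]
    clear hv hi
    induction i using Int.induction_on with
    | zero => simp
    | succ i ih =>
      rw [zpow_add_one, zpow_add_one]
      refine (conj_mul_conj hu'a ?_).trans rfl
      rw [show π u' ^ (i : ℤ) * (d * π w) * (π u' ^ (i : ℤ))⁻¹ =
        (π u' ^ (i : ℤ) * d * (π u' ^ (i : ℤ))⁻¹) * (π u' ^ (i : ℤ) * π w * (π u' ^ (i : ℤ))⁻¹) by
        group, ih, mul_inv_eq_iff_eq_mul.2
          ((show Commute (π u') d from mul_inv_eq_iff_eq_mul.1 hu'd).zpow_left (i : ℤ)).eq,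
        ← mul_assoc, (show Commute d (d ^ (i : ℤ)) from Commute.self_zpow d _).eq]
    | pred i ih =>
      have hb : (π u')⁻¹ * π w * (π u')⁻¹⁻¹ = d⁻¹ * π w := by
        have e := hu'a
        have e' : (π u')⁻¹ * d * π u' = d := by
          rw [mul_assoc, (mul_inv_eq_iff_eq_mul.1 hu'd).symm, inv_mul_cancel_left]
        calc (π u')⁻¹ * π w * (π u')⁻¹⁻¹
            = ((π u')⁻¹ * d * π u')⁻¹ * ((π u')⁻¹ * (d * π w) * π u') := by group
          _ = d⁻¹ * ((π u')⁻¹ * (π u' * π w * (π u')⁻¹) * π u') := by rw [e', e]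
          _ = d⁻¹ * π w := by group
      rw [zpow_sub_one, zpow_sub_one]
      refine (conj_mul_conj hb ?_).trans rfl
      rw [show π u' ^ (-(i : ℤ)) * (d⁻¹ * π w) * (π u' ^ (-(i : ℤ)))⁻¹ =
        (π u' ^ (-(i : ℤ)) * d * (π u' ^ (-(i : ℤ)))⁻¹)⁻¹ *
          (π u' ^ (-(i : ℤ)) * π w * (π u' ^ (-(i : ℤ)))⁻¹) by group, ih,
        mul_inv_eq_iff_eq_mul.2
          ((show Commute (π u') d from mul_inv_eq_iff_eq_mul.1 hu'd).zpow_left (-(i : ℤ))).eq,
        ← mul_assoc, (show Commute d⁻¹ (d ^ (-(i : ℤ))) from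
          ((Commute.refl d).inv_left).zpow_right _).eq]
  have hvb : v * π g * v⁻¹ = π g := by
    rw [hv, mul_inv_eq_iff_eq_mul]
    exact ((show Commute (π u') (π g) from mul_inv_eq_iff_eq_mul.1 hu'b).zpow_left i).eq
  -- the element acting as `-1`
  have hs0b : π u * v * π u * π g * (π u * v * π u)⁻¹ = π w := by
    refine conj_mul_conj hub (conj_mul_conj (b := π w) ?_ hua)
    rw [show v * (π w * π g) * v⁻¹ = (v * π w * v⁻¹) * (v * π g * v⁻¹) by group, hva, hvb,
      mul_assoc, hab, inv_mul_cancel_left]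
  have hs0a : π u * v * π u * π w * (π u * v * π u)⁻¹ = (π g)⁻¹ := by
    refine conj_mul_conj hua (conj_mul_conj hva ?_)
    rw [show π u * ((π g)⁻¹ * π w) * (π u)⁻¹ =
      (π u * π g * (π u)⁻¹)⁻¹ * (π u * π w * (π u)⁻¹) by group, hub, hua, mul_inv_rev, mul_assoc,
      inv_mul_cancel, mul_one]
  have hs0b' : π u * v * π u * (π g)⁻¹ * (π u * v * π u)⁻¹ = (π w)⁻¹ := by
    rw [← hs0b]; group
  obtain ⟨s₁, hs₁⟩ := QuotientGroup.mk'_surjective (center G) (π u * v * π u * (π u * v * π u))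
  obtain ⟨k, m, hm, hs2, -⟩ := orderOf_eq_two_parts s₁
  set s := s₁ ^ m
  have hsb : π s * π g * (π s)⁻¹ = (π g)⁻¹ := by
    rw [map_pow]
    refine conj_pow_odd ?_ hm
    rw [hs₁]
    exact conj_mul_conj hs0b hs0a
  have hsa : π s * π w * (π s)⁻¹ = (π w)⁻¹ := by
    rw [map_pow]
    refine conj_pow_odd ?_ hm
    rw [hs₁]
    exact conj_mul_conj hs0a hs0b'
  have hsN : s ∈ normalizer (centralizer ({a} : Set G) : Set G) := by
    rw [← hwa]
    refine mem_normalizer_of_centralizer_conj ?_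
    have hz : w * (s * w * s⁻¹) ∈ center G := (QuotientGroup.eq_one_iff _).1 (by
      show π (w * (s * w * s⁻¹)) = 1
      rw [map_mul, map_mul, map_mul, map_inv, hsa, mul_inv_cancel])
    rw [show s * w * s⁻¹ = w⁻¹ * (w * (s * w * s⁻¹)) by group, centralizer_mul_center hz,
      centralizer_inv']
  have hsC : s ∉ centralizer ({a} : Set G) := by
    rw [← hwa]
    intro hs
    have e : (π w)⁻¹ = π w := by
      rw [← hsa, ← map_inv, ← map_mul, ← map_mul, mem_centralizer_singleton_iff.1 hs,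
        mul_inv_cancel_right]
    have e2 : orderOf (π w) ∣ 2 := orderOf_dvd_of_pow_eq_one (by
      rw [pow_two]; nth_rewrite 1 [← e]; exact inv_mul_cancel _)
    rw [orderOf_eq_prime haq ha1] at e2
    exact hq2 ((Nat.prime_dvd_prime_iff_eq hq.out Nat.prime_two).1 e2)
  have hssC : s * s ∈ centralizer ({a} : Set G) := by
    rw [← hwa, mem_centralizer_singleton_iff]
    refine commute_of_comm_mem_center Nat.prime_two hq.out (Ne.symm hq2)
      (isPP_mul Nat.prime_two hs2 hs2 (Commute.refl s)) hwpp ((QuotientGroup.eq_one_iff _).1 ?_)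
    show π (w⁻¹ * (s * s * w * (s * s)⁻¹)) = 1
    rw [map_mul, map_mul, map_mul, map_inv, map_inv, map_mul,
      conj_mul_conj hsa (show π s * (π w)⁻¹ * (π s)⁻¹ = π w by
        rw [show π s * (π w)⁻¹ * (π s)⁻¹ = (π s * π w * (π s)⁻¹)⁻¹ by group, hsa, inv_inv]),
      inv_mul_cancel]
  -- `s` inverts `u` modulo the centre
  obtain ⟨huC, hupp⟩ := (H.mem_sub_iff h2 ha hq.out ha.2.1).1 huA
  have hsu := H.conj_mem_sub h2 ha hq.out ha.2.1 hsN huA
  have hsu' : π s * π u * (π s)⁻¹ = (π u)⁻¹ := by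
    have hcu : u * (s * u * s⁻¹) = s * u * s⁻¹ * u :=
      H.comm_of_mem h2 ha hq.out ha.2.1 hupp huC (ppSub_le q _ hsu)
    have hfix : s * (u * (s * u * s⁻¹)) = u * (s * u * s⁻¹) * s := by
      have e : s * s * u * (s * s)⁻¹ = u :=
        mul_inv_eq_iff_eq_mul.2 (H.comm_of_mem h2 ha hq.out ha.2.1 hupp huC hssC).symm
      calc s * (u * (s * u * s⁻¹)) = s * u * s⁻¹ * (s * s * u * (s * s)⁻¹) * s := by group
        _ = s * u * s⁻¹ * u * s := by rw [e]
        _ = _ := by rw [hcu]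
    by_contra hne
    have hm' := (ppSub q (centralizer ({a} : Set G))).mul_mem huA hsu
    obtain ⟨hmC, hmq⟩ := (H.mem_sub_iff h2 ha hq.out ha.2.1).1 hm'
    refine hsC (H.mem_of_commute h2 ha ⟨hq.out, ha.2.1, hmq, fun hc => hne ?_⟩ hmC hfix)
    have : π (u * (s * u * s⁻¹)) = 1 := (QuotientGroup.eq_one_iff _).2 hc
    rw [map_mul, map_mul, map_mul, map_inv] at this
    exact eq_inv_of_mul_eq_one_right this
  -- contradiction
  have hinv : (π u)⁻¹ * π g * π u = π w * π g := by
    have e1 : (π u)⁻¹ * (π g)⁻¹ * π u = (π w)⁻¹ * (π g)⁻¹ :=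
      calc (π u)⁻¹ * (π g)⁻¹ * π u
          = (π s * π u * (π s)⁻¹) * (π s * π g * (π s)⁻¹) * (π s * π u * (π s)⁻¹)⁻¹ := by
            rw [hsu', hsb, inv_inv]
        _ = π s * (π u * π g * (π u)⁻¹) * (π s)⁻¹ := by group
        _ = (π s * π w * (π s)⁻¹) * (π s * π g * (π s)⁻¹) := by rw [hub]; group
        _ = (π w)⁻¹ * (π g)⁻¹ := by rw [hsa, hsb]
    have e2 := congrArg (·⁻¹) e1
    simp only [mul_inv_rev, inv_inv, ← mul_assoc] at e2
    rw [e2, hab]
  have e3 : π g = π w * π w * π g :=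
    calc π g = π u * ((π u)⁻¹ * π g * π u) * (π u)⁻¹ := by group
      _ = (π u * π w * (π u)⁻¹) * (π u * π g * (π u)⁻¹) := by rw [hinv]; group
      _ = π w * π w * π g := by rw [hua, hub, mul_assoc]
  have e4 : orderOf (π w) ∣ 2 := orderOf_dvd_of_pow_eq_one (by
    rw [pow_two]; exact right_eq_mul.1 e3)
  rw [orderOf_eq_prime haq ha1] at e4
  exact hq2 ((Nat.prime_dvd_prime_iff_eq hq.out Nat.prime_two).1 e4)

/-- At most one prime is not full. -/
theorem not_two_nonfull (H : Hyp p c G) (h2 : TwoVertices p G) {q r : ℕ} [hq : Fact q.Prime]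
    [hr : Fact r.Prime] (hqr : q ≠ r) {x y : G} (hx : Good p q x) (hy : Good p r y)
    (hnq : c.factorization q ≠ (Nat.card G).factorization q)
    (hnr : c.factorization r ≠ (Nat.card G).factorization r) : False := by
  have main : ∀ {q r : ℕ} [Fact q.Prime] [Fact r.Prime], q ≠ r → ∀ {x y : G}, Good p q x →
      Good p r y → c.factorization q ≠ (Nat.card G).factorization q →
      c.factorization r ≠ (Nat.card G).factorization r →
      (q ^ ((Nat.card G).factorization q - c.factorization q) <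
        r ^ (c.factorization r - (Nat.card (center G)).factorization r)) ∧
      q ^ (c.factorization q - (Nat.card (center G)).factorization q) ≤
        q ^ ((Nat.card G).factorization q - c.factorization q) := by
    intro q r hq hr hqr x y hx hy hnq hnr
    obtain ⟨Q, a, ha, -, hQ⟩ := H.exists_data hx
    refine ⟨H.semiregular_bound h2 hqr hy.2.1 ha hy (normalizer_of_second hQ),
      Nat.pow_le_pow_right hq.out.pos ?_⟩
    have hW : ¬ IsUnique p q G := by
      rcases eq_or_ne q 2 with rfl | hq2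
      · exact H.not_unique_two h2 (Ne.symm hqr) hx hy hnq hnr
      · exact H.not_unique_odd h2 hq2 hx hnq
    have := H.bound_of_not_unique h2 hW
    omega
  obtain ⟨h1, h1'⟩ := main hqr hx hy hnq hnr
  obtain ⟨h2', h2''⟩ := main (Ne.symm hqr) hy hx hnr hnq
  omega

end Hyp

end CfsgLib.SolvStruct.TwoRegSizes
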