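import Cfsg.Agent.Lib.SolvStruct.TwoRegSizes.SylowParts
import Cfsg.Agent.Lib.Coprime.Action2

/-!
# Two class sizes of `p`-regular elements: one class of centralisers

`IsUnique p q` says that a `q`-subgroup contains the `q`-elements of at most one centraliser.
-/

set_option autoImplicit false
set_option linter.style.haveILetI false

open Subgroup MulAction
open scoped commutatorElement Pointwise

namespace CfsgLib.SolvStruct.TwoRegSizes

variable {G : Type*} [Group G]

/-- A `q`-subgroup contains the `q`-elements of at most one centraliser. -/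
def IsUnique (p q : ℕ) (G : Type*) [Group G] : Prop :=
  ∀ a b : G, Good p q a → Good p q b → ∀ T : Subgroup G, IsPGroup q T →
    ppSub q (centralizer ({a} : Set G)) ≤ T → ppSub q (centralizer ({b} : Set G)) ≤ T →
      centralizer ({a} : Set G) = centralizer {b}

/-- The commutator with `g`, raised to a power, for a central commutator. -/
theorem conj_pow_of_central {w g : G} (h : ⁅w, g⁆ ∈ center G) (n : ℕ) :
    w * g ^ n * w⁻¹ = ⁅w, g⁆ ^ n * g ^ n := by
  rw [← conj_pow, show w * g * w⁻¹ = ⁅w, g⁆ * g by simp only [commutatorElement_def]; group,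
    (show Commute ⁅w, g⁆ g from center_comm _ h g).mul_pow]

theorem comm_inv (w g : G) : ⁅g, w⁆ = ⁅w, g⁆⁻¹ := by
  simp only [commutatorElement_def]; group

theorem mk_comm_eq_one {x y : G} (h : ⁅x, y⁆ ∈ center G) :
    QuotientGroup.mk' (center G) x * QuotientGroup.mk' (center G) y =
      QuotientGroup.mk' (center G) y * QuotientGroup.mk' (center G) x := by
  rw [← commutatorElement_eq_one_iff_mul_comm, ← map_commutatorElement]
  exact (QuotientGroup.eq_one_iff _).2 h

namespace Hyp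

variable [Finite G] {p c : ℕ}

theorem exists_centralizer_eq_conj (H : Hyp p c G) (h2 : TwoVertices p G) {q : ℕ}
    [hq : Fact q.Prime] (hW : IsUnique p q G) {a : G} (ha : Good p q a) {r : ℕ} {y : G}
    (hy : Good p r y) :
    ∃ h : G, centralizer ({y} : Set G) = centralizer {h * a * h⁻¹} := by
  obtain ⟨y', hy', hmem⟩ := H.exists_good_mem hy ha
  rw [← H.centralizer_eq h2 hy hy' hmem]
  obtain ⟨Q, hQ⟩ := (H.isPGroup_sub h2 hy' (r := q) ha.2.1).exists_le_sylow
  obtain ⟨R, hR⟩ := (H.isPGroup_sub h2 ha (r := q) ha.2.1).exists_le_sylow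
  obtain ⟨h, hh⟩ := exists_smul_eq G R Q
  refine ⟨h, hW y' (h * a * h⁻¹) hy' (good_conj ha h) Q Q.isPGroup' hQ ?_⟩
  intro u hu
  rw [H.mem_sub_iff h2 (good_conj ha h) hq.out ha.2.1, mem_centralizer_conj_iff] at hu
  refine (mem_of_smul_sylow hh).2 (hR ((H.mem_sub_iff h2 ha hq.out ha.2.1).2 ⟨hu.1, ?_⟩))
  simpa [mul_assoc] using isPP_conj hu.2 h⁻¹

/-- An element outside a centraliser and normalising it does not centralise its `q`-elements
modulo the centre. -/
theorem exists_comm_not_central (H : Hyp p c G) (h2 : TwoVertices p G) {q : ℕ}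
    [hq : Fact q.Prime] (hW : IsUnique p q G) {a g : G} (ha : Good p q a) (hg : IsPP q g)
    (hgN : g ∈ normalizer (centralizer ({a} : Set G) : Set G))
    (hgC : g ∉ centralizer ({a} : Set G)) :
    ∃ u ∈ ppSub q (centralizer ({a} : Set G)), ⁅u, g⁆ ∉ center G := by
  by_contra hno
  push Not at hno
  have hgg : Good p q g := ⟨hq.out, ha.2.1, hg, fun h => hgC (center_le a h)⟩
  have hnorm : ppSub q (centralizer ({a} : Set G)) ≤
      normalizer (ppSub q (centralizer ({g} : Set G)) : Set G) := by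
    intro u hu
    have hn : ∀ v ∈ ppSub q (centralizer ({a} : Set G)),
        v ∈ normalizer (centralizer ({g} : Set G) : Set G) := fun v hv =>
      mem_normalizer_of_comm_center <| comm_center_iff.1 <| by
        rw [comm_inv]; exact (center G).inv_mem (hno v hv)
    refine mem_normalizer_iff.2 fun v => ⟨H.conj_mem_sub h2 hgg hq.out ha.2.1 (hn u hu),
      fun hv => ?_⟩
    have := H.conj_mem_sub h2 hgg hq.out ha.2.1 (hn u⁻¹ ((ppSub q _).inv_mem hu)) hv
    rwa [show u⁻¹ * (u * v * u⁻¹) * u⁻¹⁻¹ = v by group] at this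
  have hT : IsPGroup q ↥(ppSub q (centralizer ({a} : Set G)) ⊔
      ppSub q (centralizer ({g} : Set G))) :=
    IsPGroup.to_sup_of_normal_right' (H.isPGroup_sub h2 ha ha.2.1)
      (H.isPGroup_sub h2 hgg ha.2.1) hnorm
  exact hgC ((hW a g ha hgg _ hT le_sup_left le_sup_right) ▸ self_mem g)

theorem pow_mem_center (H : Hyp p c G) (h2 : TwoVertices p G) {q : ℕ} [hq : Fact q.Prime]
    {a g : G} (ha : Good p q a) (hg : IsPP q g) (hgC : g ∉ centralizer ({a} : Set G)) {n : ℕ}
    (hn : g ^ n ∈ centralizer ({a} : Set G)) : g ^ n ∈ center G := by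
  by_contra hc
  exact hgC (H.mem_of_commute h2 ha ⟨hq.out, ha.2.1, isPP_pow hq.out hg n, hc⟩ hn
    (Commute.self_pow g n).eq)

theorem zpow_mem_center_of (H : Hyp p c G) (h2 : TwoVertices p G) {q : ℕ} [hq : Fact q.Prime]
    {a g w : G} (ha : Good p q a) (hgC : g ∉ centralizer ({a} : Set G))
    (hgq : g ^ q ∈ center G) (hw : w ∈ centralizer ({a} : Set G)) (hwq : IsPP q w)
    (hwg : ⁅w, g⁆ ∈ center G) : w ^ q ∈ center G := by
  by_contra hc
  refine hgC (H.mem_of_commute h2 ha ⟨hq.out, ha.2.1, isPP_pow hq.out hwq q, hc⟩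
    ((centralizer _).pow_mem hw q) ?_)
  have h1 : ⁅w, g⁆ ^ q = 1 := by
    have := conj_pow_of_central hwg q
    rw [mul_inv_eq_iff_eq_mul.2 ((mem_center_iff.1 hgq w))] at this
    exact right_eq_mul.1 this
  have h3 : ⁅g, w⁆ ∈ center G := by rw [comm_inv]; exact (center G).inv_mem hwg
  have h4 := conj_pow_of_central h3 q
  rw [comm_inv, inv_pow, h1, inv_one, one_mul] at h4
  exact mul_inv_eq_iff_eq_mul.1 h4

/-- A pair `u`, `w = ⁅u, g⁆` with `w` of order `q` and central commutator with `g`. -/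
theorem exists_config (H : Hyp p c G) (h2 : TwoVertices p G) {q : ℕ} [hq : Fact q.Prime]
    (hW : IsUnique p q G) {a g : G} (ha : Good p q a) (hg : IsPP q g)
    (hgN : g ∈ normalizer (centralizer ({a} : Set G) : Set G))
    (hgC : g ∉ centralizer ({a} : Set G)) (hgq : g ^ q ∈ centralizer ({a} : Set G)) :
    ∃ u ∈ ppSub q (centralizer ({a} : Set G)), ⁅u, g⁆ ∈ ppSub q (centralizer ({a} : Set G)) ∧
      ⁅u, g⁆ ∉ center G ∧ ⁅⁅u, g⁆, g⁆ ∈ center G ∧ ⁅u, g⁆ ^ q ∈ center G := by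
  let A := ppSub q (centralizer ({a} : Set G))
  obtain ⟨u₀, hu₀, hu₀g⟩ := H.exists_comm_not_central h2 hW ha hg hgN hgC
  have hcA : ∀ x ∈ A, ⁅x, g⁆ ∈ A := fun x hx => by
    rw [show ⁅x, g⁆ = x * (g * x⁻¹ * g⁻¹) by simp only [commutatorElement_def]; group]
    exact A.mul_mem hx (H.conj_mem_sub h2 ha hq.out ha.2.1 hgN (A.inv_mem hx))
  have hnorm : zpowers g ≤ normalizer (A : Set G) := by
    refine zpowers_le.2 (mem_normalizer_iff.2 fun u => ⟨H.conj_mem_sub h2 ha hq.out ha.2.1 hgN,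
      fun hu => ?_⟩)
    have := H.conj_mem_sub h2 ha hq.out ha.2.1 ((normalizer _).inv_mem hgN) hu
    rwa [show g⁻¹ * (g * u * g⁻¹) * g⁻¹⁻¹ = u by group] at this
  obtain ⟨k, hk⟩ := hg
  have hS : IsPGroup q ↥(zpowers g ⊔ A) := IsPGroup.to_sup_of_normal_right'
    (IsPGroup.of_card (n := k) (by rw [Nat.card_zpowers, hk])) (H.isPGroup_sub h2 ha ha.2.1) hnorm
  obtain ⟨u, ⟨huA, hug⟩, hD⟩ := exists_descend hS.isNilpotent
    (fun x => x ∈ A ∧ ⁅x, g⁆ ∉ center G) (fun x => ⁅⁅x, g⁆, g⁆ ∈ center G)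
    (fun x h => mem_sup_right h.1) (fun h => h.2 (by
      rw [commutatorElement_one_left]; exact (center G).one_mem))
    (fun x hx hD => ⟨g, mem_sup_left (mem_zpowers g), hcA x hx.1, hD⟩)
    (x₀ := u₀) ⟨hu₀, hu₀g⟩
  obtain ⟨hwC, hwq⟩ := (H.mem_sub_iff h2 ha hq.out ha.2.1).1 (hcA u huA)
  exact ⟨u, huA, hcA u huA, hug, hD, H.zpow_mem_center_of h2 ha hgC
    (H.pow_mem_center h2 ha ⟨k, hk⟩ hgC hgq) hwC hwq hD⟩

/-- The elements of order `q` of a centraliser centralising `g` modulo the centre form one line. -/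
theorem mem_line (H : Hyp p c G) (h2 : TwoVertices p G) {q : ℕ} [hq : Fact q.Prime]
    {a g w₁ w₂ : G} (ha : Good p q a) (hg : IsPP q g) (hgC : g ∉ centralizer ({a} : Set G))
    (hw₁ : w₁ ∈ ppSub q (centralizer ({a} : Set G)) ∧ w₁ ^ q ∈ center G ∧ ⁅w₁, g⁆ ∈ center G)
    (hw₂ : w₂ ∈ ppSub q (centralizer ({a} : Set G)) ∧ w₂ ^ q ∈ center G ∧ ⁅w₂, g⁆ ∈ center G)
    (hne : w₁ ∉ center G) :
    QuotientGroup.mk' (center G) w₂ ∈ zpowers (QuotientGroup.mk' (center G) w₁) := by
  let π := QuotientGroup.mk' (center G)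
  have hgg : Good p q g := ⟨hq.out, ha.2.1, hg, fun h => hgC (center_le a h)⟩
  let E := closure ({w₁, w₂} : Set G)
  have hcomm : w₁ * w₂ = w₂ * w₁ := by
    obtain ⟨h1, h1'⟩ := (H.mem_sub_iff h2 ha hq.out ha.2.1).1 hw₁.1
    exact H.comm_of_mem h2 ha hq.out ha.2.1 h1' h1 (ppSub_le q _ hw₂.1)
  have hEA : E ≤ ppSub q (centralizer ({a} : Set G)) :=
    (closure_le _).2 (Set.insert_subset hw₁.1 (Set.singleton_subset_iff.2 hw₂.1))
  haveI : IsMulCommutative E := Subgroup.isMulCommutative_closure fun x hx y hy => by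
    rcases hx with rfl | rfl <;> rcases hy with rfl | rfl
    exacts [rfl, hcomm, hcomm.symm, rfl]
  have hEN : ∀ e ∈ E, π (e ^ q) = 1 ∧ π e * π g = π g * π e := by
    intro e he
    induction he using closure_induction with
    | mem x hx =>
      rcases hx with rfl | rfl
      · exact ⟨(QuotientGroup.eq_one_iff _).2 hw₁.2.1, mk_comm_eq_one hw₁.2.2⟩
      · exact ⟨(QuotientGroup.eq_one_iff _).2 hw₂.2.1, mk_comm_eq_one hw₂.2.2⟩
    | one => simp
    | mul x y hx hy ihx ihy =>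
      refine ⟨?_, ?_⟩
      · rw [(show Commute x y from congrArg Subtype.val
          (mul_comm' (⟨x, hx⟩ : E) ⟨y, hy⟩)).mul_pow, map_mul, ihx.1, ihy.1, one_mul]
      · rw [map_mul, mul_assoc, ihy.2, ← mul_assoc, ihx.2, mul_assoc]
    | inv x _ ih =>
      exact ⟨by rw [inv_pow, map_inv, ih.1, inv_one],
        by rw [map_inv]; exact ((show Commute (π x) (π g) from ih.2).inv_left).eq⟩
  obtain ⟨r, y, hrq, hy⟩ := h2 q
  haveI := Fact.mk hy.1
  obtain ⟨y', hy', hy'g⟩ := H.exists_good_mem hgg hy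
  let K := ppSub r (centralizer ({g} : Set G))
  have hEN' : ∀ e ∈ E, e ∈ normalizer (centralizer ({g} : Set G) : Set G) := by
    intro e he
    refine mem_normalizer_of_comm_center (comm_center_iff.1 ((QuotientGroup.eq_one_iff _).1 ?_))
    show π ⁅g, e⁆ = 1
    rw [map_commutatorElement, commutatorElement_eq_one_iff_mul_comm]
    exact ((hEN e he).2).symm
  have hEK : E ≤ normalizer (K : Set G) := by
    intro e he
    refine mem_normalizer_iff.2 fun v => ⟨H.conj_mem_sub h2 hgg hy.1 hy.2.1 (hEN' e he),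
      fun hv => ?_⟩
    have := H.conj_mem_sub h2 hgg hy.1 hy.2.1 (hEN' e⁻¹ (E.inv_mem he)) hv
    rwa [show e⁻¹ * (e * v * e⁻¹) * e⁻¹⁻¹ = v by group] at this
  have hcop : (Nat.card E).Coprime (Nat.card K) := by
    obtain ⟨i, hi⟩ := IsPGroup.iff_card.1 ((H.isPGroup_sub h2 ha ha.2.1).to_le hEA)
    obtain ⟨j, hj⟩ := IsPGroup.iff_card.1 (H.isPGroup_sub h2 hgg hy.2.1 (r := r))
    rw [hi, hj]
    exact ((Nat.coprime_primes hq.out hy.1).2 (Ne.symm hrq)).pow i j
  by_contra hline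
  refine hy'.2.2.2 (Coprime.le_of_cyclic_quotient (R := center G) hEK hcop (fun B hB hBc u hu => ?_)
    ((H.mem_sub_iff h2 hgg hy.1 hy.2.1).2 ⟨hy'g, hy'.2.2.1⟩))
  obtain ⟨hu, huB⟩ := mem_inf.1 hu
  by_contra huc
  have hug : Good p r u := ⟨hy.1, hy.2.1, ((H.mem_sub_iff h2 hgg hy.1 hy.2.1).1 hu).2, huc⟩
  -- `B` is not central
  obtain ⟨b, hbB, hbc⟩ : ∃ b ∈ B, b ∉ center G := by
    by_contra hB'
    push Not at hB'
    obtain ⟨a₀, ha₀, hsup⟩ := hBc
    have himg : ∀ e ∈ E, π e ∈ zpowers (π a₀) := by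
      intro e he
      rw [← hsup] at he
      have := mem_map_of_mem π he
      rwa [Subgroup.map_sup, show B.map π = ⊥ from (map_eq_bot_iff B).2 (by
        rw [QuotientGroup.ker_mk']; exact hB'), bot_sup_eq, MonoidHom.map_zpowers] at this
    have h1 := himg w₁ (subset_closure (Set.mem_insert _ _))
    have h2' := himg w₂ (subset_closure (Set.mem_insert_of_mem _ rfl))
    have hcard : Nat.card (zpowers (π a₀)) ∣ q := by
      rw [Nat.card_zpowers]
      exact orderOf_dvd_of_pow_eq_one (by rw [← map_pow]; exact (hEN a₀ ha₀).1)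
    have hw1 : orderOf (π w₁) = q := orderOf_eq_prime (by
      rw [← map_pow]; exact (QuotientGroup.eq_one_iff _).2 hw₁.2.1)
      (fun h => hne ((QuotientGroup.eq_one_iff _).1 h))
    have : zpowers (π w₁) = zpowers (π a₀) := eq_of_le_of_card_ge (zpowers_le.2 h1) (by
      rw [Nat.card_zpowers (π w₁), hw1]
      exact Nat.le_of_dvd hq.out.pos hcard)
    exact hline (this ▸ h2')
  obtain ⟨hbC, hbq⟩ := (H.mem_sub_iff h2 ha hq.out ha.2.1).1 (hEA (hB hbB))
  have hbg : b ∈ centralizer ({g} : Set G) :=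
    H.mem_of_commute h2 hgg hug (ppSub_le r _ hu) (mem_centralizer_iff.1 huB b hbB)
  exact hgC (H.mem_of_commute h2 ha ⟨hq.out, ha.2.1, hbq, hbc⟩ hbC
    (mem_centralizer_singleton_iff.1 hbg).symm)

end Hyp

end CfsgLib.SolvStruct.TwoRegSizes
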